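import Cfsg.Agent.OneComposite.Hyp
import Cfsg.Agent.FGS74.ThreeOrders.Radical

/-!
# Simple groups with element orders `2, r, 2 r`: first facts
-/

set_option autoImplicit false
set_option linter.style.haveILetI false

namespace CfsgLib.FGS74.TwoR

open Subgroup
open CfsgLib.FGS74.ThreeOrders
open scoped commutatorElement

universe u

variable {G : Type u} [Group G] {r : ℕ}

theorem orderOf_ne_rr (h : OneComposite.Hyp G r) (g : G) : orderOf g ≠ r * r := by
  intro hg
  have h3 : 2 < r := lt_of_le_of_ne h.prime.two_le (Ne.symm h.ne_two)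
  rcases h.order_r g (hg ▸ dvd_mul_right r r) with e | e <;> rw [hg] at e <;> nlinarith

theorem orderOf_ne_r_mul (h : OneComposite.Hyp G r) {p : ℕ} (hp : p.Prime) (hp2 : p ≠ 2) (g : G) :
    orderOf g ≠ r * p := by
  intro hg
  rcases h.order_r g (hg ▸ dvd_mul_right r p) with e | e <;> rw [hg] at e
  · exact hp.ne_one ((mul_eq_left₀ h.prime.ne_zero).1 e)
  · exact hp2 (Nat.eq_of_mul_eq_mul_left h.prime.pos (e.trans (mul_comm 2 r)))

theorem perfect (h : OneComposite.Hyp G r) : commutator G = ⊤ := by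
  haveI := h.isSimple
  rcases (inferInstance : (commutator G).Normal).eq_bot_or_eq_top with e | e
  · exact absurd ⟨⟨fun a b => commutatorElement_eq_one_iff_mul_comm.1
      (mem_bot.1 (e ▸ commutator_mem_commutator (mem_top a) (mem_top b)))⟩⟩ h.noncomm
  · exact e

theorem not_isSolvable (h : OneComposite.Hyp G r) : ¬ Group.IsSolvable G := fun hs =>
  haveI := h.isSimple
  h.noncomm ⟨⟨IsSimpleGroup.comm_iff_isSolvable.2 hs⟩⟩

/-- An element commuting with an element of order `r` has order `1`, `2`, `r` or `2 r`, so only the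
primes `2` and `r` occur. -/
theorem prime_of_commute_r (h : OneComposite.Hyp G r) {q g : G} (hq : orderOf q = r) (hc : Commute q g)
    {p : ℕ} (hp : p.Prime) (hg : orderOf g = p) : p = 2 ∨ p = r := by
  by_contra! hpr
  have := TwoOrders.exists_orderOf_mul h.prime hp (Ne.symm hpr.2) hc hq hg
  exact orderOf_ne_r_mul h hp hpr.1 _ this

theorem twoElementary (h : OneComposite.Hyp G r) : TwoElementary G := by
  intro g k hk
  obtain ⟨j, -, hj⟩ := (Nat.dvd_prime_pow Nat.prime_two).1 (orderOf_dvd_of_pow_eq_one hk)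
  rcases j with _ | j
  · rw [pow_zero, orderOf_eq_one_iff] at hj; rw [hj, one_mul]
  · rcases h.even_order g (hj ▸ dvd_pow_self 2 (Nat.succ_ne_zero j)) with e | e
    · rw [← sq, ← e]; exact pow_orderOf_eq_one g
    · exfalso
      have hd : r ∣ 2 ^ (j + 1) := by rw [← hj, e]; exact dvd_mul_left r 2
      exact h.ne_two ((Nat.prime_dvd_prime_iff_eq h.prime Nat.prime_two).1 (h.prime.dvd_of_dvd_pow hd))

/-- An element of odd order commuting with an involution has order `r`. -/
theorem orderOf_eq_r (h : OneComposite.Hyp G r) {g t : G} (ht : orderOf t = 2) (hc : Commute t g)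
    (hodd : Odd (orderOf g)) (hg : g ≠ 1) : orderOf g = r := by
  have ho := hc.orderOf_mul_eq_mul_orderOf_of_coprime (ht ▸ Nat.coprime_two_left.2 hodd)
  rw [ht] at ho
  rcases h.even_order (t * g) (ho ▸ dvd_mul_right 2 _) with e | e <;> rw [ho] at e
  · exact absurd (orderOf_eq_one_iff.1 (by omega)) hg
  · omega

/-- No element whose `s`-th power centralises an involution has order divisible by `s ^ 2`. -/
theorem not_commute_pow (h : OneComposite.Hyp G r) :
    ∀ s : ℕ, s.Prime → s ≠ 2 → ∀ g y : G, s * s ∣ orderOf g → orderOf y = 2 →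
      ¬ Commute (g ^ s) y := by
  intro s hs hs2 g y hd hy hc
  obtain ⟨c, hcd⟩ := hd
  have hsg : s ∣ orderOf g := ⟨s * c, by rw [hcd, mul_assoc]⟩
  have ho : orderOf (g ^ s) = s * c := by
    rw [orderOf_pow' _ hs.ne_zero, Nat.gcd_eq_right hsg, hcd, mul_assoc, Nat.mul_div_cancel_left _ hs.pos]
  have hodd : Odd (orderOf g) := by
    by_contra he
    rcases h.even_order g (even_iff_two_dvd.1 (Nat.not_odd_iff_even.1 he)) with e | e <;>
      rw [e] at hsg
    · exact hs2 ((Nat.prime_dvd_prime_iff_eq hs Nat.prime_two).1 hsg)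
    · rw [e] at hcd
      rcases (hs.dvd_mul.1 hsg) with h2 | h2
      · exact hs2 ((Nat.prime_dvd_prime_iff_eq hs Nat.prime_two).1 h2)
      · rw [(Nat.prime_dvd_prime_iff_eq hs h.prime).1 h2, mul_assoc, mul_comm 2 r] at hcd
        exact h.ne_two ((Nat.prime_dvd_prime_iff_eq h.prime Nat.prime_two).1
          ⟨c, Nat.eq_of_mul_eq_mul_left h.prime.pos hcd⟩)
  have hne : g ^ s ≠ 1 := fun e => by
    rw [e, orderOf_one] at ho
    exact hs.ne_one (Nat.eq_one_of_mul_eq_one_right ho.symm)
  have hr := orderOf_eq_r h hy hc.symm (hodd.of_dvd_nat (orderOf_pow_dvd s)) hne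
  rw [ho] at hr
  have hsr : s = r := (Nat.prime_dvd_prime_iff_eq hs h.prime).1 ⟨c, hr.symm⟩
  refine orderOf_ne_rr h g ?_
  rw [hcd, mul_assoc, hr, hsr]

end CfsgLib.FGS74.TwoR
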