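import Cfsg.Agent.FGS74.TwoR.Invol
import Cfsg.Agent.Solvable.Fitting
import Cfsg.Agent.LocalStructure.Cores

/-!
# A four group centralised by an element of order `r`

Then the centraliser of each of its involutions normalises it.
-/

set_option autoImplicit false
set_option linter.style.haveILetI false
set_option linter.unusedSectionVars false

namespace CfsgLib.FGS74.TwoR

open Subgroup
open CfsgLib.FGS74.ThreeOrders
open scoped commutatorElement

universe u

variable {G : Type u} [Group G] [Finite G] {r : ℕ}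

/-- A subgroup in which only the primes `2` and `r` occur is solvable. -/
theorem isSolvable_of_primes (h : OneComposite.Hyp G r) (M : Subgroup G)
    (hM : ∀ p : ℕ, p.Prime → ∀ g ∈ M, orderOf g = p → p = 2 ∨ p = r) : Group.IsSolvable M := by
  refine isSolvable_of_two_primes Nat.prime_two h.prime (Ne.symm h.ne_two) fun p hp hd => ?_
  obtain ⟨g, hg, ho⟩ := exists_orderOf_prime_mem hp hd
  exact hM p hp g hg ho

theorem mem_sylow_two_of_normalized (S : Sylow 2 G) {M : Subgroup G}
    (hMS : M ≤ normalizer ((S : Subgroup G) : Set G)) {g : G} (hg : g ∈ M) (hg2 : g * g = 1) :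
    g ∈ (S : Subgroup G) :=
  ThreeOrders.mem_sylow_of_pow_eq_one S (k := 1) (hMS hg) (by rw [pow_one, sq]; exact hg2)

/-- The centralisers of the involutions of `S` normalise it if an element of order `r` centralises it. -/
theorem centralizer_le_normalizer_of_central (h : OneComposite.Hyp G r) (S : Sylow 2 G)
    (h4 : Nat.card (S : Subgroup G) = 4) {q₀ : G} (hq₀ : ∀ s ∈ (S : Subgroup G), Commute q₀ s)
    (hq₀o : orderOf q₀ = r) :
    ∀ t ∈ (S : Subgroup G), t ≠ 1 → centralizer ({t} : Set G) ≤ normalizer ((S : Subgroup G) : Set G) := by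
  haveI := Fact.mk Nat.prime_two
  haveI := Fact.mk h.prime
  intro t htS ht1
  obtain ⟨x, hxo, hxS, hfpf⟩ := exists_x h S h4
  obtain ⟨Q, hQC, hCQ, hQr, hQodd, hQmem, hdec⟩ := exists_odd_part h S h4 htS ht1
  set Q₀ := Q ⊓ centralizer ((S : Subgroup G) : Set G) with hQ₀
  have hq₀Q : q₀ ∈ Q₀ := by
    refine mem_inf.2 ⟨hQmem q₀ (mem_centralizer_singleton_iff.2 (hq₀ t htS).eq)
      (hq₀o ▸ h.prime.odd_of_ne_two h.ne_two), mem_centralizer_iff.2 fun s hs => (hq₀ s hs).eq.symm⟩
  -- `Q₀` is the odd part of `C(S)`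
  have hQ₀mem : ∀ g, (∀ s ∈ (S : Subgroup G), Commute g s) → Odd (orderOf g) → g ∈ Q₀ := fun g hg ho =>
    mem_inf.2 ⟨hQmem g (mem_centralizer_singleton_iff.2 (hg t htS).eq) ho,
      mem_centralizer_iff.2 fun s hs => (hg s hs).eq.symm⟩
  have hQ₀odd : ∀ g ∈ Q₀, Odd (orderOf g) := fun g hg =>
    hQodd.of_dvd_nat (orderOf_dvd_natCard Q (mem_inf.1 hg).1)
  have hSn : ∀ s ∈ (S : Subgroup G), s ∈ normalizer (Q₀ : Set G) := fun s hs =>
    centralizer_le_normalizer _ (mem_centralizer_iff.2 fun g hg =>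
      ((mem_centralizer_iff.1 (mem_inf.1 hg).2 s hs).symm))
  have hxQ₀ : x ∈ normalizer (Q₀ : Set G) := by
    refine mem_normalizer_fintype fun g hg => hQ₀mem _ (fun s hs => ?_) ?_
    · have hs' : x⁻¹ * s * x ∈ (S : Subgroup G) := by
        have := conj_mem_of_le_normalizer (inv_mem hxS) hs; rwa [inv_inv] at this
      have hc : Commute g (x⁻¹ * s * x) := (mem_centralizer_iff.1 (mem_inf.1 hg).2 _ hs').symm
      have := hc.map (MulAut.conj x).toMonoidHom
      simpa [mul_assoc] using this
    · show Odd (orderOf (MulAut.conj x g))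
      rw [MulEquiv.orderOf_eq]; exact hQ₀odd g hg
  -- the centraliser of `Q₀`
  set M := centralizer (Q₀ : Set G) with hM
  have hSM : (S : Subgroup G) ≤ M := fun s hs =>
    mem_centralizer_iff.2 fun g hg => (mem_centralizer_iff.1 (mem_inf.1 hg).2 s hs).symm
  haveI : Group.IsSolvable M := isSolvable_of_primes h M fun p hp g hg ho =>
    prime_of_commute_r h hq₀o (mem_centralizer_iff.1 hg q₀ hq₀Q) hp ho
  have hNM : normalizer (Q₀ : Set G) ≤ normalizer (M : Set G) := fun g hg => by
    refine mem_normalizer_fintype fun m hm => mem_centralizer_iff.2 fun q hq => ?_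
    have hq' : g⁻¹ * q * g ∈ Q₀ := by
      have := conj_mem_of_le_normalizer (inv_mem hg) hq; rwa [inv_inv] at this
    have hc : Commute (g⁻¹ * q * g) m := mem_centralizer_iff.1 hm _ hq'
    show q * (g * m * g⁻¹) = g * m * g⁻¹ * q
    calc q * (g * m * g⁻¹) = g * ((g⁻¹ * q * g) * m) * g⁻¹ := by group
      _ = g * (m * (g⁻¹ * q * g)) * g⁻¹ := by rw [hc.eq]
      _ = g * m * g⁻¹ * q := by group
  set F := Cfsg.fittingSubgroup M with hF
  haveI := Solvable.fittingSubgroup_normal (G := M)
  -- `S` centralises `O_r(M)`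
  have hSU : (S : Subgroup G) ≤ centralizer (Cfsg.pCoreOf r M : Set G) := by
    by_contra hne
    have hnM : normalizer (M : Set G) ≤ normalizer (Cfsg.pCoreOf r M : Set G) :=
      LocalStructure.normalizer_le_normalizer_pCoreOf M
    have hcop : (Nat.card (S : Subgroup G)).Coprime (Nat.card (Cfsg.pCoreOf r M)) := by
      obtain ⟨n, hn⟩ := IsPGroup.iff_card.1 (LocalStructure.pCoreOf_isPGroup (p := r) M)
      rw [hn, h4, show 4 = 2 ^ 2 by norm_num]
      exact ((Nat.coprime_primes Nat.prime_two h.prime).2 (Ne.symm h.ne_two)).pow _ _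
    obtain ⟨g, hg⟩ := exists_mixed h.prime Nat.prime_three (LocalStructure.pCoreOf_isPGroup M)
      ((hSM.trans le_normalizer).trans hnM) (hnM (hNM hxQ₀)) hxS hxo hfpf hcop hne
    exact orderOf_ne_r_mul h Nat.prime_three (by norm_num) g hg
  -- `S` centralises the Fitting subgroup
  have hSF : (S : Subgroup G).subgroupOf M ≤ F := by
    refine le_trans ?_ Solvable.centralizer_fittingSubgroup_le
    intro s hs
    rw [mem_centralizer_iff]
    intro f hf
    have hfn : Group.IsNilpotent F := Solvable.fittingSubgroup_isNilpotent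
    -- split `f` into its two parts
    obtain ⟨k, m, hm, ho⟩ := Nat.exists_eq_two_pow_mul_odd (orderOf_pos f).ne'
    obtain ⟨u, v, huv⟩ : ∃ u v : ℤ, (m : ℤ) * u + (2 ^ k : ℕ) * v = 1 := by
      have hg : Nat.gcd m (2 ^ k) = 1 := ((Nat.coprime_two_right.2 hm).pow_right k).gcd_eq_one
      exact ⟨Nat.gcdA m (2 ^ k), Nat.gcdB m (2 ^ k), by rw [← Nat.gcd_eq_gcd_ab, hg]; rfl⟩
    have key : ∀ p : ℕ, p.Prime → ∀ g : M, g ∈ F → (∃ j, g ^ p ^ j = 1) → g ∈ Cfsg.pCore p M := by
      intro p hp g hg ⟨j, hj⟩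
      haveI := Fact.mk hp
      obtain ⟨P⟩ : Nonempty (Sylow p F) := inferInstance
      haveI := hfn
      haveI : (P : Subgroup F).Normal := inferInstance
      haveI : ((P : Subgroup F).map F.subtype).Normal := by
        haveI : (P : Subgroup F).Characteristic := Sylow.characteristic_of_normal P inferInstance
        exact ConjAct.normal_of_characteristic_of_normal
      refine LocalStructure.le_pCore (P.2.map F.subtype) ⟨⟨g, hg⟩, ?_, rfl⟩
      have hz : IsPGroup p (zpowers (⟨g, hg⟩ : F)) := fun z => ⟨j, by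
        obtain ⟨i, hi⟩ := mem_zpowers_iff.1 z.2
        refine Subtype.ext ?_
        rw [SubmonoidClass.coe_pow, ← hi, ← zpow_natCast, ← zpow_mul, mul_comm, zpow_mul, zpow_natCast,
          show (⟨g, hg⟩ : F) ^ p ^ j = 1 from Subtype.ext hj, one_zpow, OneMemClass.coe_one]⟩
      exact ((P.3 (P.2.to_sup_of_normal_left hz) le_sup_left).le) (mem_sup_right (mem_zpowers _))
    have hr' : ∀ g : M, Odd (orderOf g) → ∃ j, g ^ r ^ j = 1 := by
      intro g hg
      rcases eq_or_ne g 1 with rfl | hg1
      · exact ⟨0, by simp⟩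
      obtain ⟨p, hp, hpd⟩ := Nat.exists_prime_and_dvd (fun e => hg1 (orderOf_eq_one_iff.1 e))
      refine ⟨(orderOf g).primeFactorsList.length, ?_⟩
      rw [← orderOf_dvd_iff_pow_eq_one]
      refine dvd_of_eq (Nat.eq_prime_pow_of_unique_prime_dvd (orderOf_pos g).ne' fun {d} hd hdg => ?_)
      obtain ⟨g', hg'⟩ := TwoOrders.exists_orderOf_of_dvd (orderOf_pos g).ne' hdg
      rcases prime_of_commute_r h hq₀o (mem_centralizer_iff.1 g'.2 q₀ hq₀Q) hd
        (by rw [orderOf_coe, hg']) with e | e
      · exact absurd (e ▸ hdg : 2 ∣ orderOf g) hg.not_two_dvd_nat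
      · exact e
    have h1 : f ^ m ∈ Cfsg.pCore 2 M := key 2 Nat.prime_two _ (pow_mem hf m) ⟨k, by
      rw [← pow_mul, mul_comm, ← ho, pow_orderOf_eq_one]⟩
    have h2 : f ^ 2 ^ k ∈ Cfsg.pCore r M := key r h.prime _ (pow_mem hf _) (hr' _ (by
      rw [orderOf_pow, Nat.gcd_eq_right (ho ▸ dvd_mul_right _ _), ho,
        Nat.mul_div_cancel_left _ (by positivity)]
      exact hm))
    have c1 : Commute ((s : G)) ((f ^ m : M) : G) := by
      have hT : ((f ^ m : M) : G) ∈ (S : Subgroup G) := by
        haveI := LocalStructure.pCore_normal (p := 2) (G := M)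
        have hsub : Cfsg.pCore 2 M ≤ (S.subtype hSM : Subgroup M) :=
          le_sup_left.trans ((S.subtype hSM).3
            ((LocalStructure.pCore_isPGroup (p := 2) (G := M)).to_sup_of_normal_left
              (S.subtype hSM).2) le_sup_right).le
        exact hsub h1
      exact comm_of_mem h S hs hT
    have c2 : Commute ((s : G)) ((f ^ 2 ^ k : M) : G) :=
      (mem_centralizer_iff.1 (hSU hs) _ (mem_map_of_mem _ h2)).symm
    refine (Commute.symm ?_ : Commute f s).eq
    refine Subtype.ext ?_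
    have : (f : G) = ((f ^ m : M) : G) ^ u * ((f ^ 2 ^ k : M) : G) ^ v := by
      rw [SubmonoidClass.coe_pow, SubmonoidClass.coe_pow, ← zpow_natCast, ← zpow_natCast, ← zpow_mul,
        ← zpow_mul, ← zpow_add, huv, zpow_one]
    show (s : G) * f = f * s
    rw [this]
    exact ((c1.zpow_right u).mul_right (c2.zpow_right v)).eq
  -- so `S` is normal in `M`
  have hMS : M ≤ normalizer ((S : Subgroup G) : Set G) := by
    have hfn : Group.IsNilpotent F := Solvable.fittingSubgroup_isNilpotent
    let P : Sylow 2 F := (S.subtype hSM).subtype hSF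
    haveI := hfn
    haveI : (P : Subgroup F).Normal := inferInstance
    haveI : ((P : Subgroup F).map F.subtype).Normal := by
      haveI : (P : Subgroup F).Characteristic := Sylow.characteristic_of_normal P inferInstance
      exact ConjAct.normal_of_characteristic_of_normal
    have he : (P : Subgroup F).map F.subtype = (S : Subgroup G).subgroupOf M := by
      rw [show (P : Subgroup F) = ((S : Subgroup G).subgroupOf M).subgroupOf F from rfl,
        subgroupOf_map_subtype, inf_eq_left.2 hSF]
    have hn := (inferInstance : ((P : Subgroup F).map F.subtype).Normal)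
    rw [he] at hn
    exact (normal_subgroupOf_iff_le_normalizer hSM).1 hn
  -- `N_Q(Q₀) = Q₀`
  have hQ₀Q : Q₀ = Q := by
    refine le_antisymm inf_le_left ?_
    have hnil : Group.IsNilpotent Q := hQr.isNilpotent
    by_contra hne
    have hlt : Q₀.subgroupOf Q < ⊤ := lt_top_iff_ne_top.2 fun e => hne (subgroupOf_eq_top.1 e)
    obtain ⟨g, hgn, hgQ⟩ := SetLike.exists_of_lt (Group.normalizerCondition_of_isNilpotent _ hlt)
    refine hgQ (mem_subgroupOf.2 ?_)
    have hgn' : (g : G) ∈ normalizer (Q₀ : Set G) := by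
      rw [mem_normalizer_iff]
      intro z
      constructor
      · intro hz
        exact mem_subgroupOf.1 ((mem_normalizer_iff.1 hgn ⟨z, (mem_inf.1 hz).1⟩).1 hz)
      · intro hz
        have hzQ : z ∈ Q := by
          have := mul_mem (mul_mem (inv_mem g.2) (mem_inf.1 hz).1) g.2
          simpa [mul_assoc] using this
        exact mem_subgroupOf.1 ((mem_normalizer_iff.1 hgn ⟨z, hzQ⟩).2 hz)
    have hgS : (g : G) ∈ normalizer ((S : Subgroup G) : Set G) := by
      refine mem_normalizer_fintype fun s hs => ?_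
      have hmem : (g : G) * s * (g : G)⁻¹ ∈ M :=
        conj_mem_of_le_normalizer (hNM hgn') (hSM hs)
      refine mem_sylow_two_of_normalized S hMS hmem ?_
      calc (g : G) * s * (g : G)⁻¹ * ((g : G) * s * (g : G)⁻¹) = g * (s * s) * (g : G)⁻¹ := by group
        _ = 1 := by rw [sq_of_mem h S hs]; group
    exact hQ₀mem _ (commute_of_normalizes h S h4 htS ht1 hgS
      (mem_centralizer_singleton_iff.1 (hQC g.2)))
      (hQodd.of_dvd_nat (orderOf_dvd_natCard Q g.2))
  intro g hg
  obtain ⟨q, hq, s, hs, rfl⟩ := hdec g hg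
  refine mul_mem (centralizer_le_normalizer _ ?_) (le_normalizer hs)
  rw [← hQ₀Q] at hq
  exact (mem_inf.1 hq).2

end CfsgLib.FGS74.TwoR
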