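import Cfsg.Agent.FGS74.TwoR.Basic

/-!
# Sylow two-subgroups of order four: the involutions and their centralisers
-/

set_option autoImplicit false
set_option linter.style.haveILetI false
set_option linter.unusedSectionVars false

namespace CfsgLib.FGS74.TwoR

open Subgroup
open CfsgLib.FGS74.ThreeOrders
open scoped commutatorElement Pointwise

universe u

variable {G : Type u} [Group G] [Finite G] {r : ℕ}

theorem sq_of_mem (h : OneComposite.Hyp G r) (S : Sylow 2 G) {a : G} (ha : a ∈ (S : Subgroup G)) :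
    a * a = 1 :=
  (twoElementary h).sq_of_mem S.2 ha

theorem comm_of_mem (h : OneComposite.Hyp G r) (S : Sylow 2 G) {a b : G} (ha : a ∈ (S : Subgroup G))
    (hb : b ∈ (S : Subgroup G)) : Commute a b :=
  (twoElementary h).commute_of_mem S.2 ha hb

theorem orderOf_of_mem (h : OneComposite.Hyp G r) (S : Sylow 2 G) {a : G}
    (ha : a ∈ (S : Subgroup G)) (ha1 : a ≠ 1) : orderOf a = 2 :=
  orderOf_eq_prime (hp := Fact.mk Nat.prime_two) (by rw [sq]; exact sq_of_mem h S ha) ha1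

omit [Finite G] in
/-- Three distinct nontrivial elements exhaust a group of order four. -/
theorem cases_of_card_four {S : Subgroup G} (h4 : Nat.card S = 4) {a b c d : G} (ha : a ∈ S)
    (hb : b ∈ S) (hc : c ∈ S) (hd : d ∈ S) (ha1 : a ≠ 1) (hb1 : b ≠ 1) (hc1 : c ≠ 1) (hab : a ≠ b)
    (hac : a ≠ c) (hbc : b ≠ c) : d = 1 ∨ d = a ∨ d = b ∨ d = c := by
  classical
  haveI : Finite S := Nat.finite_of_card_ne_zero (by omega)
  haveI := Fintype.ofFinite S
  rw [Nat.card_eq_fintype_card] at h4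
  let A : Finset S := {1, ⟨a, ha⟩, ⟨b, hb⟩, ⟨c, hc⟩}
  have hA : A.card = 4 := by
    simp [A, Subtype.ext_iff, ha1.symm, hb1.symm, hc1.symm, hab, hac, hbc]
  have : (⟨d, hd⟩ : S) ∈ A := by
    rw [Finset.eq_univ_of_card A (hA.trans h4.symm)]; exact Finset.mem_univ _
  simpa [A, Subtype.ext_iff] using this

/-- An element of order three permutes the involutions of a four group fixed point freely. -/
theorem exists_x (h : OneComposite.Hyp G r) (S : Sylow 2 G) (h4 : Nat.card (S : Subgroup G) = 4) :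
    ∃ x : G, orderOf x = 3 ∧ x ∈ normalizer ((S : Subgroup G) : Set G) ∧
      ∀ i, 0 < i → i < 3 → ∀ k ∈ (S : Subgroup G), Commute k (x ^ i) → k = 1 := by
  haveI := Fact.mk Nat.prime_two
  have hS : ¬ (S : Subgroup G) ≤ ⊥ := by
    rw [le_bot_iff, ← card_eq_one (H := (S : Subgroup G)), h4]; norm_num
  obtain ⟨x, s, K, hs, hs2, hxo, hKS, hxK, hKne, hfpf⟩ :=
    exists_mover (not_commute_pow h) (twoElementary h) (perfect h) S ⊥ hS
  obtain ⟨k, hk, hk1⟩ : ∃ k ∈ K, k ≠ 1 := by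
    by_contra! hh
    exact hKne fun k hk => mem_bot.2 (hh k hk)
  have hfp1 : ∀ a ∈ K, x * a * x⁻¹ = a → a = 1 := fun a ha e =>
    hfpf 1 one_pos hs.one_lt a ha (by rw [pow_one]; exact (mul_inv_eq_iff_eq_mul.1 e).symm)
  set a := x * k * x⁻¹ with ha
  set b := x * a * x⁻¹ with hb
  have haK : a ∈ K := conj_mem_of_le_normalizer hxK hk
  have hbK : b ∈ K := conj_mem_of_le_normalizer hxK haK
  have ha1 : a ≠ 1 := fun e => hk1 (conj_eq_one_iff.1 e)
  have hb1 : b ≠ 1 := fun e => ha1 (conj_eq_one_iff.1 e)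
  have hka : k ≠ a := fun e => hk1 (hfp1 k hk (by rw [← ha]; exact e.symm))
  have hab : a ≠ b := fun e => ha1 (hfp1 a haK (by rw [← hb]; exact e.symm))
  have hkb : k ≠ b := by
    intro e
    have h2 : x ^ 2 * k * (x ^ 2)⁻¹ = k := by
      conv_rhs => rw [e, hb, ha]
      simp [pow_succ, mul_assoc]
    exact hk1 (hfpf 2 two_pos (lt_of_le_of_ne hs.two_le (Ne.symm hs2)) k hk
      (mul_inv_eq_iff_eq_mul.1 h2).symm)
  have hKeq : (S : Subgroup G) ≤ K := fun d hd => by
    rcases cases_of_card_four h4 (hKS hk) (hKS haK) (hKS hbK) hd hk1 ha1 hb1 hka hkb hab with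
      rfl | rfl | rfl | rfl
    exacts [one_mem K, hk, haK, hbK]
  have hxS : x ∈ normalizer ((S : Subgroup G) : Set G) := le_antisymm hKS hKeq ▸ hxK
  -- `s = 3`
  have hs3 : s = 3 := by
    set c := x * b * x⁻¹ with hc
    have hcK : c ∈ K := conj_mem_of_le_normalizer hxK hbK
    have hck : c = k := by
      rcases cases_of_card_four h4 (hKS hk) (hKS haK) (hKS hbK) (hKS hcK) hk1 ha1 hb1 hka hkb hab with
        e | e | e | e
      · exact absurd (conj_eq_one_iff.1 e) hb1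
      · exact e
      · exact absurd (mul_left_cancel (mul_right_cancel (e.trans ha))) hkb.symm
      · exact absurd (mul_left_cancel (mul_right_cancel (e.trans hb))) hab.symm
    by_contra hne
    refine hk1 (hfpf 3 (by norm_num) ?_ k hk ?_)
    · have := hs.two_le
      rcases Nat.lt_or_ge s 3 with h' | h' <;> omega
    · refine (mul_inv_eq_iff_eq_mul.1 (?_ : x ^ 3 * k * (x ^ 3)⁻¹ = k)).symm
      conv_rhs => rw [← hck, hc, hb, ha]
      simp [pow_succ, mul_assoc]
  subst hs3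
  exact ⟨x, hxo, hxS, fun i hi hi3 d hd => hfpf i hi hi3 d (hKeq hd)⟩

/-- All involutions are conjugate. -/
theorem isConj_involutions (h : OneComposite.Hyp G r) (S : Sylow 2 G)
    (h4 : Nat.card (S : Subgroup G) = 4) {a b : G} (ha : orderOf a = 2) (hb : orderOf b = 2) :
    IsConj a b := by
  haveI := Fact.mk Nat.prime_two
  obtain ⟨x, -, hxS, hfpf⟩ := exists_x h S h4
  have hmem : ∀ c : G, orderOf c = 2 → ∃ c' ∈ (S : Subgroup G), c' ≠ 1 ∧ IsConj c c' := by
    intro c hc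
    have hp : IsPGroup 2 (zpowers c) := IsPGroup.of_card (n := 1) (by rw [Nat.card_zpowers, hc, pow_one])
    obtain ⟨T, hT⟩ := hp.exists_le_sylow
    obtain ⟨g, hg⟩ := MulAction.exists_smul_eq G T S
    refine ⟨g * c * g⁻¹, ?_, fun e => ?_, isConj_iff.2 ⟨g, rfl⟩⟩
    · rw [← hg]
      show g * c * g⁻¹ ∈ MulAut.conj g • (T : Subgroup G)
      exact smul_mem_pointwise_smul c _ _ (hT (mem_zpowers c))
    · rw [conj_eq_one_iff] at e; rw [e, orderOf_one] at hc; norm_num at hc
  obtain ⟨a', ha', ha1, hca⟩ := hmem a ha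
  obtain ⟨b', hb', hb1, hcb⟩ := hmem b hb
  refine hca.trans (IsConj.trans ?_ hcb.symm)
  set a₁ := x * a' * x⁻¹ with ha₁
  set a₂ := x * a₁ * x⁻¹ with ha₂
  have h1 : a₁ ∈ (S : Subgroup G) := conj_mem_of_le_normalizer hxS ha'
  have h2 : a₂ ∈ (S : Subgroup G) := conj_mem_of_le_normalizer hxS h1
  have e1 : a₁ ≠ 1 := fun e => ha1 (conj_eq_one_iff.1 e)
  have e2 : a₂ ≠ 1 := fun e => e1 (conj_eq_one_iff.1 e)
  have f01 : a' ≠ a₁ := fun e => ha1 (hfpf 1 one_pos (by norm_num) a' ha' (by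
    rw [pow_one]; exact (mul_inv_eq_iff_eq_mul.1 e.symm).symm))
  have f12 : a₁ ≠ a₂ := fun e => e1 (hfpf 1 one_pos (by norm_num) a₁ h1 (by
    rw [pow_one]; exact (mul_inv_eq_iff_eq_mul.1 e.symm).symm))
  have f02 : a' ≠ a₂ := fun e => ha1 (hfpf 2 two_pos (by norm_num) a' ha' (by
    refine (mul_inv_eq_iff_eq_mul.1 (?_ : x ^ 2 * a' * (x ^ 2)⁻¹ = a')).symm
    conv_rhs => rw [e, ha₂, ha₁]
    simp [pow_succ, mul_assoc]))
  rcases cases_of_card_four h4 ha' h1 h2 hb' ha1 e1 e2 f01 f02 f12 with rfl | rfl | rfl | rfl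
  · exact absurd rfl hb1
  · exact IsConj.refl _
  · exact isConj_iff.2 ⟨x, rfl⟩
  · exact (isConj_iff.2 ⟨x, rfl⟩ : IsConj a' a₁).trans (isConj_iff.2 ⟨x, rfl⟩)

theorem exists_sylow_mem (t : G) (ht : orderOf t = 2) : ∃ S : Sylow 2 G, t ∈ (S : Subgroup G) := by
  haveI := Fact.mk Nat.prime_two
  obtain ⟨S, hS⟩ := (IsPGroup.of_card (n := 1) (by rw [Nat.card_zpowers, ht, pow_one]) :
    IsPGroup 2 (zpowers t)).exists_le_sylow
  exact ⟨S, hS (mem_zpowers t)⟩

/-- An element fixing an involution of a four group and normalising it centralises it. -/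
theorem commute_of_normalizes (h : OneComposite.Hyp G r) (S : Sylow 2 G)
    (h4 : Nat.card (S : Subgroup G) = 4) {t : G} (htS : t ∈ (S : Subgroup G)) (ht1 : t ≠ 1) {g : G}
    (hg : g ∈ normalizer ((S : Subgroup G) : Set G)) (hgt : Commute g t) :
    ∀ s ∈ (S : Subgroup G), Commute g s := by
  haveI := Fact.mk Nat.prime_two
  by_contra! hh
  obtain ⟨a, ha, hga⟩ := hh
  have ha1 : a ≠ 1 := fun e => hga (e ▸ Commute.one_right g)
  have hat : a ≠ t := fun e => hga (e ▸ hgt)
  set b := a * t with hb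
  have hbS : b ∈ (S : Subgroup G) := mul_mem ha htS
  have htt : t⁻¹ = t := inv_eq_of_mul_eq_one_right (sq_of_mem h S htS)
  have hb1 : b ≠ 1 := fun e => hat (by rw [eq_inv_of_mul_eq_one_left e, htt])
  have hbt : b ≠ t := fun e => ha1 (mul_eq_right.1 e)
  have hab : a ≠ b := fun e => ht1 (mul_eq_left.1 e.symm)
  have hgts : g * t * g⁻¹ = t := mul_inv_eq_iff_eq_mul.2 hgt.eq
  have hgab : g * a * g⁻¹ = b := by
    rcases cases_of_card_four h4 htS ha hbS (conj_mem_of_le_normalizer hg ha) ht1 ha1 hb1 hat.symm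
      hbt.symm hab with e | e | e | e
    · exact absurd (conj_eq_one_iff.1 e) ha1
    · exact absurd (mul_left_cancel (mul_right_cancel (e.trans hgts.symm))) hat
    · exact absurd (mul_inv_eq_iff_eq_mul.1 e) hga
    · exact e
  have hgba : g * b * g⁻¹ = a := by
    calc g * b * g⁻¹ = (g * a * g⁻¹) * (g * t * g⁻¹) := by rw [hb]; group
      _ = a * (t * t) := by rw [hgab, hgts, hb]; group
      _ = a := by rw [sq_of_mem h S htS, mul_one]
  -- the odd power of `g` still swaps `a` and `b`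
  obtain ⟨k, m, hm, ho⟩ := Nat.exists_eq_two_pow_mul_odd (orderOf_pos g).ne'
  have hgm : g ^ m ∈ (S : Subgroup G) := ThreeOrders.mem_sylow_of_pow_eq_one S (pow_mem hg m) (k := k)
    (by rw [← pow_mul, mul_comm, ← ho, pow_orderOf_eq_one])
  have hswap : ∀ j : ℕ, g ^ (2 * j) * a * (g ^ (2 * j))⁻¹ = a := by
    intro j
    induction j with
    | zero => simp
    | succ j ih =>
      calc g ^ (2 * (j + 1)) * a * (g ^ (2 * (j + 1)))⁻¹
          = g * (g * (g ^ (2 * j) * a * (g ^ (2 * j))⁻¹) * g⁻¹) * g⁻¹ := by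
            rw [show 2 * (j + 1) = 2 * j + 1 + 1 by ring, pow_succ', pow_succ']; group
        _ = a := by rw [ih, hgab, hgba]
  obtain ⟨j, rfl⟩ := hm
  have h1 : g ^ (2 * j + 1) * a * (g ^ (2 * j + 1))⁻¹ = b := by
    calc g ^ (2 * j + 1) * a * (g ^ (2 * j + 1))⁻¹
        = g * (g ^ (2 * j) * a * (g ^ (2 * j))⁻¹) * g⁻¹ := by rw [pow_succ']; group
      _ = b := by rw [hswap, hgab]
  rw [(comm_of_mem h S hgm ha).eq, mul_inv_cancel_right] at h1
  exact hab h1

/-- The centraliser of an involution is `Q S` with `Q` a normal subgroup of exponent `r`. -/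
theorem exists_odd_part (h : OneComposite.Hyp G r) (S : Sylow 2 G)
    (h4 : Nat.card (S : Subgroup G) = 4) {t : G} (htS : t ∈ (S : Subgroup G)) (ht1 : t ≠ 1) :
    ∃ Q : Subgroup G, Q ≤ centralizer ({t} : Set G) ∧
      centralizer ({t} : Set G) ≤ normalizer (Q : Set G) ∧ IsPGroup r Q ∧ Odd (Nat.card Q) ∧
      (∀ g ∈ centralizer ({t} : Set G), Odd (orderOf g) → g ∈ Q) ∧
      (∀ g ∈ centralizer ({t} : Set G), ∃ q ∈ Q, ∃ s ∈ (S : Subgroup G), g = q * s) := by
  haveI := Fact.mk Nat.prime_two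
  haveI := Fact.mk h.prime
  set C := centralizer ({t} : Set G) with hC
  have hSC : (S : Subgroup G) ≤ C := fun s hs =>
    mem_centralizer_singleton_iff.2 (comm_of_mem h S hs htS).eq
  let S' : Sylow 2 C := S.subtype hSC
  have hS' : (S' : Subgroup C) = (S : Subgroup G).subgroupOf C := rfl
  have hle : normalizer ((S' : Subgroup C) : Set C) ≤ centralizer ((S' : Subgroup C) : Set C) := by
    intro g hg
    have hgS : (g : G) ∈ normalizer ((S : Subgroup G) : Set G) := by
      have h1 : (g : G) ∈ normalizer (((S' : Subgroup C).map C.subtype : Subgroup G) : Set G) :=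
        le_normalizer_map C.subtype (mem_map_of_mem _ hg)
      rwa [hS', subgroupOf_map_subtype, inf_eq_left.2 hSC] at h1
    rw [mem_centralizer_iff]
    intro s hs
    exact Subtype.ext (commute_of_normalizes h S h4 htS ht1 hgS
      (mem_centralizer_singleton_iff.1 g.2) s hs).eq.symm
  have hcompl := MonoidHom.ker_transferSylow_isComplement' S' hle
  set Q₀ := (MonoidHom.transferSylow S' hle).ker with hQ₀
  have hidx : Q₀.index = 4 := by
    rw [hcompl.symm.index_eq_card, hS', Nat.card_congr (subgroupOfEquivOfLe hSC).toEquiv, h4]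
  have hodd : Odd (Nat.card Q₀) := by
    rw [← hcompl.index_eq_card]
    exact Nat.odd_iff.2 (Nat.two_dvd_ne_zero.1 S'.not_dvd_index)
  have hodd' : Odd (Nat.card ↥(Q₀.map C.subtype)) := by
    rwa [card_map_of_injective C.subtype_injective]
  refine ⟨Q₀.map C.subtype, map_subtype_le _, ?_, ?_, hodd', ?_, ?_⟩
  · intro g hg
    exact le_normalizer_map C.subtype
      (mem_map_of_mem _ (le_normalizer_of_normal (H := Q₀) (mem_top (⟨g, hg⟩ : C))))
  · intro q
    rcases eq_or_ne (q : G) 1 with e | e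
    · exact ⟨0, Subtype.ext (by rw [pow_zero, pow_one, e]; rfl)⟩
    · refine ⟨1, Subtype.ext ?_⟩
      have ho : orderOf (q : G) = r := orderOf_eq_r h (orderOf_of_mem h S htS ht1)
        (mem_centralizer_singleton_iff.1 (map_subtype_le (H := C) _ q.2)).symm
        (hodd'.of_dvd_nat (by rw [orderOf_coe]; exact orderOf_dvd_natCard q)) e
      rw [pow_one, SubmonoidClass.coe_pow, OneMemClass.coe_one, ← ho, pow_orderOf_eq_one]
  · intro g hg ho
    refine ⟨⟨g, hg⟩, ?_, rfl⟩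
    have h1 : ((⟨g, hg⟩ : C) : C ⧸ Q₀) ^ (2 ^ 2) = 1 := by
      rw [show 2 ^ 2 = Q₀.index by rw [hidx]; norm_num, index_eq_card]; exact pow_card_eq_one'
    have h2 : orderOf ((⟨g, hg⟩ : C) : C ⧸ Q₀) ∣ orderOf g := by
      rw [← orderOf_mk g hg]; exact orderOf_map_dvd (QuotientGroup.mk' Q₀) _
    have h3 : orderOf ((⟨g, hg⟩ : C) : C ⧸ Q₀) = 1 := Nat.eq_one_of_dvd_coprimes
      ((Nat.coprime_two_left.2 ho).pow_left 2) (orderOf_dvd_of_pow_eq_one h1) h2
    exact (QuotientGroup.eq_one_iff _).1 (orderOf_eq_one_iff.1 h3)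
  · intro g hg
    obtain ⟨⟨⟨q, hq⟩, ⟨s, hs⟩⟩, hqs⟩ := hcompl.2 ⟨g, hg⟩
    exact ⟨q, mem_map_of_mem _ hq, s, hs, (congrArg Subtype.val hqs).symm⟩

end CfsgLib.FGS74.TwoR
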