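import Cfsg.Agent.FGS74.TwoR.Invol
import Cfsg.Agent.LocalStructure.Cores
import Cfsg.Agent.S0205

/-!
# The normalisers of `r`-subgroups are `r`-closed

Here no element of order `r` centralises a Sylow two-subgroup.
-/

set_option autoImplicit false
set_option linter.style.haveILetI false
set_option linter.unusedSectionVars false

namespace CfsgLib.FGS74.TwoR

open Subgroup
open CfsgLib.FGS74.ThreeOrders
open scoped commutatorElement

universe u

variable {G : Type u} [Group G] [Finite G] {r : ℕ}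

/-- No element of order `r` centralises a Sylow two-subgroup. -/
def Free (G : Type u) [Group G] (r : ℕ) : Prop :=
  ∀ (T : Sylow 2 G) (q : G), orderOf q = r → ¬ ∀ s ∈ (T : Subgroup G), Commute q s

theorem zpowers_isPGroup {p : ℕ} [Fact p.Prime] {g : G} {k : ℕ} (hg : g ^ p ^ k = 1) :
    IsPGroup p (zpowers g) := by
  obtain ⟨j, -, hj⟩ := (Nat.dvd_prime_pow Fact.out).1 (orderOf_dvd_of_pow_eq_one hg)
  exact IsPGroup.of_card (n := j) (by rw [Nat.card_zpowers, hj])

/-- In the normaliser of an `r`-subgroup no two-subgroup is moved by its normaliser. -/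
theorem exists_odd_complement (h : OneComposite.Hyp G r) (hfree : Free G r)
    (h4 : ∀ T : Sylow 2 G, Nat.card (T : Subgroup G) = 4) {X : Subgroup G} (hX : IsPGroup r X)
    (hX1 : X ≠ ⊥) :
    ∃ W : Subgroup (normalizer (X : Set G)), W.Normal ∧ Odd (Nat.card W) ∧ ∃ k, W.index = 2 ^ k := by
  haveI := Fact.mk Nat.prime_two
  haveI := Fact.mk h.prime
  set N := normalizer (X : Set G) with hN
  obtain ⟨T⟩ : Nonempty (Sylow 2 N) := inferInstance
  suffices hle : normalizer ((T : Subgroup N) : Set N) ≤ centralizer ((T : Subgroup N) : Set N) by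
    have hc := MonoidHom.ker_transferSylow_isComplement' T hle
    obtain ⟨k, hk⟩ := IsPGroup.iff_card.1 T.2
    refine ⟨_, inferInstance, ?_, k, by rw [hc.symm.index_eq_card, hk]⟩
    rw [← hc.index_eq_card]
    exact Nat.odd_iff.2 (Nat.two_dvd_ne_zero.1 T.not_dvd_index)
  by_contra hle
  obtain ⟨y, hy, hyc⟩ := SetLike.not_le_iff_exists.1 hle
  set T' := (T : Subgroup N).map N.subtype with hT'
  have hT'N : T' ≤ N := map_subtype_le _
  have hyT' : (y : G) ∈ normalizer (T' : Set G) := le_normalizer_map N.subtype (mem_map_of_mem _ hy)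
  obtain ⟨U, hU⟩ := (T.2.map N.subtype).exists_le_sylow
  obtain ⟨t, ht, hyt⟩ : ∃ t ∈ T', ¬ Commute (y : G) t := by
    by_contra! hh
    exact hyc (mem_centralizer_iff.2 fun t ht => Subtype.ext (hh t (mem_map_of_mem _ ht)).eq.symm)
  -- `T'` is a four group
  have hTU : T' = (U : Subgroup G) := by
    refine eq_of_le_of_card_ge hU ?_
    rw [h4 U]
    by_contra hlt
    obtain ⟨k, hk⟩ := IsPGroup.iff_card.1 (T.2.map N.subtype)
    rw [← hT'] at hk
    have hk1 : k ≤ 1 := by
      by_contra hk2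
      have : 2 ^ 2 ≤ 2 ^ k := Nat.pow_le_pow_right two_pos (by omega)
      omega
    have ht1 : t ≠ 1 := fun e => hyt (e ▸ Commute.one_right _)
    have hy' : (y : G) * t * (y : G)⁻¹ ∈ T' := conj_mem_of_le_normalizer hyT' ht
    classical
    haveI := Fintype.ofFinite T'
    have hc : Nat.card T' ≤ 2 := by
      rw [hk]
      calc 2 ^ k ≤ 2 ^ 1 := Nat.pow_le_pow_right two_pos hk1
        _ = 2 := pow_one 2
    have hcard : ({1, ⟨t, ht⟩, ⟨_, hy'⟩} : Finset T').card ≤ 2 :=
      (Finset.card_le_univ _).trans (Nat.card_eq_fintype_card (α := T') ▸ hc)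
    have h1 : (y : G) * t * (y : G)⁻¹ ≠ 1 := fun e => ht1 (conj_eq_one_iff.1 e)
    have h2 : (y : G) * t * (y : G)⁻¹ ≠ t := fun e => hyt (mul_inv_eq_iff_eq_mul.1 e)
    simp [Subtype.ext_iff, ht1.symm, h1.symm, h2.symm] at hcard
  obtain ⟨x, hxo, hxU, hfpf⟩ := exists_x h U (h4 U)
  -- `U` centralises `X` or there is a mixed order
  have hUN : (U : Subgroup G) ≤ N := hTU ▸ hT'N
  have hcen : (U : Subgroup G) ≤ centralizer (X : Set G) := by
    -- replace `x` by an element of `N`
    by_contra hne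
    -- an element of odd order of `N` moving `U`
    obtain ⟨k, m, hm, ho⟩ := Nat.exists_eq_two_pow_mul_odd (orderOf_pos (y : G)).ne'
    have hyU : (y : G) ∈ normalizer ((U : Subgroup G) : Set G) := hTU ▸ hyT'
    have hU2 : (y : G) ^ m ∈ (U : Subgroup G) :=
      ThreeOrders.mem_sylow_of_pow_eq_one U (pow_mem hyU m) (k := k)
        (by rw [← pow_mul, mul_comm, ← ho, pow_orderOf_eq_one])
    set z := (y : G) ^ 2 ^ k with hz
    have hzU : z ∈ normalizer ((U : Subgroup G) : Set G) := pow_mem hyU _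
    have hzo : Odd (orderOf z) := by
      rw [hz, orderOf_pow, Nat.gcd_eq_right (ho ▸ dvd_mul_right _ _), ho,
        Nat.mul_div_cancel_left _ (by positivity)]
      exact hm
    have hzc : ¬ ∀ a ∈ (U : Subgroup G), Commute z a := by
      intro hall
      have hyall : ∀ a ∈ (U : Subgroup G), Commute (y : G) a := by
        intro a ha
        obtain ⟨u, v, huv⟩ : ∃ u v : ℤ, (m : ℤ) * u + (2 ^ k : ℕ) * v = 1 := by
          have hg : Nat.gcd m (2 ^ k) = 1 := ((Nat.coprime_two_right.2 hm).pow_right k).gcd_eq_one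
          exact ⟨Nat.gcdA m (2 ^ k), Nat.gcdB m (2 ^ k), by rw [← Nat.gcd_eq_gcd_ab, hg]; rfl⟩
        have : (y : G) = ((y : G) ^ m) ^ u * z ^ v := by
          rw [hz, ← zpow_natCast, ← zpow_natCast, ← zpow_mul, ← zpow_mul, ← zpow_add, huv, zpow_one]
        rw [this]
        exact ((comm_of_mem h U hU2 ha).zpow_left u).mul_left ((hall a ha).zpow_left v)
      exact hyt (hyall t (hTU ▸ ht))
    -- its action has order three
    have he : ∀ a ∈ (U : Subgroup G), Commute (z ^ 3) a := by
      intro a ha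
      rcases eq_or_ne a 1 with rfl | ha1
      · exact Commute.one_right _
      set b := z * a * z⁻¹ with hb
      set c := z * b * z⁻¹ with hcdef
      have haU := ha
      have hbU : b ∈ (U : Subgroup G) := conj_mem_of_le_normalizer hzU ha
      have hcU : c ∈ (U : Subgroup G) := conj_mem_of_le_normalizer hzU hbU
      by_cases hab : b = a
      · exact (show Commute z a from mul_inv_eq_iff_eq_mul.1 hab).pow_left 3
      by_cases hac : c = a
      · -- `z²` fixes `a`, and `z` has odd order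
        exfalso
        obtain ⟨j, hj⟩ := hzo
        have h2' : z ^ 2 * a * (z ^ 2)⁻¹ = c := by rw [hcdef, hb]; simp [pow_succ, mul_assoc]
        have h2 : Commute (z ^ 2) a := mul_inv_eq_iff_eq_mul.1 (h2'.trans hac)
        have h3 : Commute z a := by
          have : z = (z ^ 2) ^ (j + 1) := by
            rw [← pow_mul, show 2 * (j + 1) = (2 * j + 1) + 1 by ring, pow_succ, ← hj,
              pow_orderOf_eq_one, one_mul]
          rw [this]
          exact h2.pow_left _
        exact hab (mul_inv_eq_iff_eq_mul.2 h3.eq)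
      have hbc : c ≠ b := fun e => hab (mul_left_cancel (mul_right_cancel e))
      have hb1 : b ≠ 1 := fun e => ha1 (conj_eq_one_iff.1 e)
      have hc1 : c ≠ 1 := fun e => hb1 (conj_eq_one_iff.1 e)
      refine mul_inv_eq_iff_eq_mul.1 ?_
      show z ^ 3 * a * (z ^ 3)⁻¹ = a
      have hd : z * c * z⁻¹ ∈ (U : Subgroup G) := conj_mem_of_le_normalizer hzU hcU
      have hzd : z ^ 3 * a * (z ^ 3)⁻¹ = z * c * z⁻¹ := by
        rw [hcdef, hb]; simp [pow_succ, mul_assoc]
      rw [hzd]
      rcases cases_of_card_four (h4 U) haU hbU hcU hd ha1 hb1 hc1 (Ne.symm hab) (Ne.symm hac) hbc.symm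
        with e | e | e | e
      · exact absurd (conj_eq_one_iff.1 e) hc1
      · exact e
      · exact absurd (mul_left_cancel (mul_right_cancel (e.trans hb))) hac
      · exact absurd (mul_left_cancel (mul_right_cancel (e.trans hcdef))) hbc
    -- the three-part of `z`
    obtain ⟨l, m₃, hm₃, ho3⟩ := Nat.exists_eq_pow_mul_and_not_dvd (orderOf_pos z).ne' 3 (by norm_num)
    set w := z ^ m₃ with hw
    have hwN : w ∈ N := pow_mem (pow_mem (y.2 : (y : G) ∈ N) _) _
    have hwU : w ∈ normalizer ((U : Subgroup G) : Set G) := pow_mem hzU _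
    have hwmoves : ∀ a ∈ (U : Subgroup G), a ≠ 1 → ¬ Commute w a := by
      intro a ha ha1 hca
      refine hzc fun b hb => ?_
      have h1 : ∀ c ∈ (U : Subgroup G), Commute w c := commute_of_normalizes h U (h4 U) ha ha1 hwU hca
      have hg : Nat.gcd m₃ 3 = 1 :=
        ((Nat.prime_three.coprime_iff_not_dvd).2 hm₃).symm.gcd_eq_one
      have hu := Nat.gcd_eq_gcd_ab m₃ 3
      rw [hg] at hu
      have : z = w ^ (Nat.gcdA m₃ 3) * (z ^ 3) ^ (Nat.gcdB m₃ 3) := by
        rw [hw, ← zpow_natCast, ← zpow_natCast, ← zpow_mul, ← zpow_mul, ← zpow_add, ← hu]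
        simp
      rw [this]
      exact ((h1 b hb).zpow_left _).mul_left ((he b hb).zpow_left _)
    have hw3 : w ^ 3 ^ l = 1 := by rw [hw, ← pow_mul, mul_comm, ← ho3, pow_orderOf_eq_one]
    have hwo : orderOf w = 3 := by
      obtain ⟨j, -, hj⟩ := (Nat.dvd_prime_pow Nat.prime_three).1 (orderOf_dvd_of_pow_eq_one hw3)
      rcases j with _ | _ | j
      · rw [pow_zero, orderOf_eq_one_iff] at hj
        obtain ⟨a, ha, hza⟩ := not_forall₂.1 hzc
        have ha1 : a ≠ 1 := fun e => hza (e ▸ Commute.one_right z)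
        exact absurd (by rw [hj]; exact Commute.one_left a) (hwmoves a ha ha1)
      · rw [hj, pow_one]
      · exfalso
        obtain ⟨a, ha, hza⟩ := not_forall₂.1 hzc
        have ha1 : a ≠ 1 := fun e => hza (e ▸ Commute.one_right z)
        refine not_commute_pow h 3 Nat.prime_three (by norm_num) w a
          (by rw [hj, pow_succ, pow_succ, mul_assoc]; exact dvd_mul_left _ _)
          (orderOf_of_mem h U ha ha1) ?_
        rw [hw, ← pow_mul, mul_comm, pow_mul]
        exact (he a ha).pow_left _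
    have hwfpf : ∀ i, 0 < i → i < 3 → ∀ a ∈ (U : Subgroup G), Commute a (w ^ i) → a = 1 := by
      intro i hi hi3 a ha hc
      by_contra ha1
      refine hwmoves a ha ha1 ?_
      interval_cases i
      · simpa using hc.symm
      · have h4' : w = (w ^ 2) ^ 2 := by
          rw [← pow_mul, show 2 * 2 = 3 + 1 from rfl, pow_succ, ← hwo, pow_orderOf_eq_one, one_mul]
        rw [h4']
        exact hc.symm.pow_left 2
    have hcop : (Nat.card (U : Subgroup G)).Coprime (Nat.card X) := by
      obtain ⟨n, hn⟩ := IsPGroup.iff_card.1 hX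
      rw [hn, h4 U, show 4 = 2 ^ 2 by norm_num]
      exact ((Nat.coprime_primes Nat.prime_two h.prime).2 (Ne.symm h.ne_two)).pow _ _
    obtain ⟨g, hg⟩ := exists_mixed h.prime Nat.prime_three hX hUN hwN hwU hwo hwfpf hcop hne
    exact orderOf_ne_r_mul h Nat.prime_three (by norm_num) g hg
  obtain ⟨q, hq⟩ := exists_prime_orderOf_dvd_card' r (G := X) (by
    obtain ⟨n, hn⟩ := IsPGroup.iff_card.1 hX
    rw [hn]
    refine dvd_pow_self r ?_
    rintro rfl
    exact hX1 (card_eq_one.1 (by rw [hn, pow_zero])))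
  exact hfree U q (by rw [orderOf_coe, hq]) fun s hs => mem_centralizer_iff.1 (hcen hs) q q.2

/-- The elements of `r`-power order of the normaliser of a nontrivial `r`-subgroup form a subgroup. -/
theorem rclosed (h : OneComposite.Hyp G r) (hfree : Free G r)
    (h4 : ∀ T : Sylow 2 G, Nat.card (T : Subgroup G) = 4) {X : Subgroup G} (hX : IsPGroup r X)
    (hX1 : X ≠ ⊥) :
    ∃ R : Subgroup G, R ≤ normalizer (X : Set G) ∧ IsPGroup r R ∧
      ∀ g ∈ normalizer (X : Set G), ∀ k, g ^ r ^ k = 1 → g ∈ R := by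
  haveI := Fact.mk Nat.prime_two
  haveI := Fact.mk h.prime
  set N := normalizer (X : Set G) with hN
  obtain ⟨W, hWn, hWodd, k₀, hWi⟩ :
      ∃ W : Subgroup N, W.Normal ∧ Odd (Nat.card W) ∧ ∃ k, W.index = 2 ^ k :=
    exists_odd_complement h hfree h4 hX hX1
  haveI := hWn
  haveI : Group.IsSolvable W := Cfsg.Agent.S0205.result hWodd
  set R := Cfsg.pCore r W with hR
  haveI hRn : R.Normal := LocalStructure.pCore_normal
  have hRp : IsPGroup r R := LocalStructure.pCore_isPGroup
  -- `r`-elements of `N` lie in `W`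
  have hmemW : ∀ g ∈ N, ∀ k, g ^ r ^ k = 1 → ∃ w : W, ((w : N) : G) = g := by
    intro g hg k hk
    refine ⟨⟨⟨g, hg⟩, ?_⟩, rfl⟩
    have h1 : ((⟨g, hg⟩ : N) : N ⧸ W) ^ (2 ^ k₀) = 1 := by
      rw [← hWi, index_eq_card]; exact pow_card_eq_one'
    have h2 : ((⟨g, hg⟩ : N) : N ⧸ W) ^ (r ^ k) = 1 := by
      rw [← QuotientGroup.mk_pow, show (⟨g, hg⟩ : N) ^ r ^ k = 1 from Subtype.ext (by simpa using hk),
        QuotientGroup.mk_one]
    have h3 := pow_gcd_eq_one.2 ⟨h1, h2⟩
    rw [(((Nat.coprime_primes Nat.prime_two h.prime).2 (Ne.symm h.ne_two)).pow k₀ k).gcd_eq_one,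
      pow_one] at h3
    exact (QuotientGroup.eq_one_iff _).1 h3
  have hXW : ∀ a ∈ X, ∃ w : W, ((w : N) : G) = a ∧ w ∈ R := by
    intro a ha
    obtain ⟨k, hk⟩ := hX ⟨a, ha⟩
    obtain ⟨w, hw⟩ := hmemW a (le_normalizer ha) k (congrArg Subtype.val hk)
    refine ⟨w, hw, ?_⟩
    let X' : Subgroup W := (X.subgroupOf N).subgroupOf W
    haveI : (X.subgroupOf N).Normal := Subgroup.normal_in_normalizer
    haveI : X'.Normal := inferInstanceAs ((X.subgroupOf N).subgroupOf W).Normal
    refine LocalStructure.le_pCore (N := X') hX.comap_subtype.comap_subtype ?_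
    show ((w : N) : G) ∈ X
    rw [hw]; exact ha
  -- `R` contains every `r`-element of `W`
  suffices hall : ¬ r ∣ R.index by
    refine ⟨(R.map W.subtype).map N.subtype, map_subtype_le _, (hRp.map _).map _, fun g hg k hk => ?_⟩
    obtain ⟨w, rfl⟩ := hmemW g hg k hk
    refine mem_map_of_mem _ (mem_map_of_mem _ ?_)
    have h1 : (w : W ⧸ R) ^ R.index = 1 := by rw [index_eq_card]; exact pow_card_eq_one'
    have h2 : (w : W ⧸ R) ^ r ^ k = 1 := by
      rw [← QuotientGroup.mk_pow, show w ^ r ^ k = 1 from Subtype.ext (Subtype.ext (by simpa using hk)),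
        QuotientGroup.mk_one]
    have h3 := pow_gcd_eq_one.2 ⟨h1, h2⟩
    rw [((h.prime.coprime_iff_not_dvd.2 hall).symm.pow_right k).gcd_eq_one, pow_one] at h3
    exact (QuotientGroup.eq_one_iff _).1 h3
  intro hd
  -- a minimal normal subgroup of `W / R`
  haveI : Nontrivial (W ⧸ R) := by
    rw [← Finite.one_lt_card_iff_nontrivial, ← index_eq_card]
    exact lt_of_lt_of_le h.prime.one_lt (Nat.le_of_dvd (Nat.pos_of_ne_zero index_ne_zero_of_finite) hd)
  obtain ⟨V, hV, -⟩ := MinNormal.exists_isMinNormal_le (⊤ : Subgroup (W ⧸ R)) top_ne_bot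
  haveI := hV.normal
  obtain ⟨s, hs, -, n, hn⟩ := exists_exponent_prime hV (commute_of_isMinNormal hV inferInstance)
  haveI := Fact.mk hs
  set E := V.comap (QuotientGroup.mk' R) with hE
  have hsr : s ≠ r := by
    rintro rfl
    have hEp : IsPGroup s E := (IsPGroup.of_card hn).comap_of_ker_isPGroup _
      (by rw [QuotientGroup.ker_mk']; exact hRp)
    have hER : E ≤ R := LocalStructure.le_pCore hEp
    refine hV.ne_bot ?_
    rw [← map_comap_eq_self_of_surjective (QuotientGroup.mk'_surjective R) V, Subgroup.map_eq_bot_iff,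
      QuotientGroup.ker_mk']
    exact hER
  obtain ⟨P⟩ : Nonempty (Sylow s E) := inferInstance
  have hgen := Sylow.normalizer_sup_eq_top P
  set K := (P : Subgroup E).map E.subtype with hK
  set M := normalizer (K : Set W) with hM
  -- an element of order `r` normalising `K`
  obtain ⟨z, hzM, hzo⟩ : ∃ z ∈ M, orderOf z = r := by
    refine exists_orderOf_prime_mem h.prime ?_
    have h1 : R.index = E.index * Nat.card V := by
      rw [hE, index_comap_of_surjective _ (QuotientGroup.mk'_surjective R), mul_comm, card_mul_index,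
        index_eq_card]
    have hEd : r ∣ E.index := by
      rw [h1, hn] at hd
      exact ((h.prime.coprime_iff_not_dvd.2 fun hds => hsr
        ((Nat.prime_dvd_prime_iff_eq h.prime hs).1 (h.prime.dvd_of_dvd_pow hds)).symm)).dvd_of_dvd_mul_right hd
    refine hEd.trans ?_
    rw [← relIndex_top_right, ← hgen, relIndex_sup_right]
    exact relIndex_dvd_card E M
  haveI := Fact.mk h.prime
  -- `z` acts without fixed points on `K`
  have hKp : IsPGroup s K := P.2.map _
  obtain ⟨q, hqX, hqo⟩ : ∃ q ∈ X, orderOf q = r := by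
    obtain ⟨q, hq⟩ := exists_prime_orderOf_dvd_card' r (G := X) (by
      obtain ⟨j, hj⟩ := IsPGroup.iff_card.1 hX
      rw [hj]
      refine dvd_pow_self r ?_
      rintro rfl
      exact hX1 (card_eq_one.1 (by rw [hj, pow_zero])))
    exact ⟨q, q.2, by rw [orderOf_coe, hq]⟩
  have hmix : ∀ a : W, orderOf a = r → ∀ k ∈ K, Commute a k → k = 1 := by
    intro a ha k hk hc
    by_contra hk1
    obtain ⟨j, hj⟩ := hKp ⟨k, hk⟩
    obtain ⟨i, -, hi⟩ := (Nat.dvd_prime_pow hs).1
      (orderOf_dvd_of_pow_eq_one (show k ^ s ^ j = 1 from congrArg Subtype.val hj))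
    rcases i with _ | i
    · exact hk1 (orderOf_eq_one_iff.1 (by rw [hi, pow_zero]))
    obtain ⟨k', hk'⟩ := TwoOrders.exists_orderOf_of_dvd (orderOf_pos k).ne'
      (hi ▸ dvd_pow_self s (Nat.succ_ne_zero i) : s ∣ orderOf k)
    have hk'' : orderOf (k ^ (orderOf k / s)) = s :=
      orderOf_pow_orderOf_div (orderOf_pos k).ne' (hi ▸ dvd_pow_self s (Nat.succ_ne_zero i))
    have := TwoOrders.exists_orderOf_mul h.prime hs hsr.symm (hc.pow_right (orderOf k / s)) ha hk''
    have hs2 : s ≠ 2 := by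
      rintro rfl
      exact hWodd.not_two_dvd_nat (hk'' ▸ orderOf_dvd_natCard _)
    refine orderOf_ne_r_mul h hs hs2 (((a * k ^ (orderOf k / s) : W) : N) : G) ?_
    rw [orderOf_coe, orderOf_coe, this]
  have hKne : ¬ K ≤ centralizer (R : Set W) := by
    intro hle
    obtain ⟨w, hw, hwR⟩ := hXW q hqX
    have hwo : orderOf w = r := by rw [← hqo, ← hw, orderOf_coe, orderOf_coe]
    have hKbot : K = ⊥ := (eq_bot_iff_forall _).2 fun k hk =>
      hmix w hwo k hk (mem_centralizer_iff.1 (hle hk) w hwR)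
    have hPbot : (P : Subgroup E) = ⊥ := by
      rwa [hK, Subgroup.map_eq_bot_iff, ker_subtype, le_bot_iff] at hKbot
    refine P.not_dvd_index ?_
    rw [hPbot, index_bot]
    obtain ⟨v, hv, hv1⟩ : ∃ v ∈ V, v ≠ 1 := by
      by_contra! hh; exact hV.ne_bot ((eq_bot_iff_forall _).2 hh)
    have hsV : s ∣ Nat.card V := by
      rw [hn]; refine dvd_pow_self s ?_
      rintro rfl
      exact hV.ne_bot (card_eq_one.1 (by rw [hn, pow_zero]))
    refine hsV.trans ?_
    rw [← map_comap_eq_self_of_surjective (QuotientGroup.mk'_surjective R) V]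
    exact card_map_dvd E (QuotientGroup.mk' R)
  have hcop : (Nat.card K).Coprime (Nat.card R) := by
    obtain ⟨a, ha⟩ := IsPGroup.iff_card.1 hKp
    obtain ⟨b, hb⟩ := IsPGroup.iff_card.1 hRp
    rw [ha, hb]
    exact ((Nat.coprime_primes hs h.prime).2 hsr).pow a b
  obtain ⟨g, hg⟩ := exists_mixed h.prime h.prime hRp le_normalizer_of_normal
    (le_normalizer_of_normal (H := R) (mem_top z)) hzM hzo (fun i hi hir k hk hc => by
      refine hmix z hzo k hk ?_
      obtain ⟨u, hu⟩ := exists_pow_eq_self_of_coprime (x := z) (n := i) (by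
        rw [hzo]; exact (h.prime.coprime_iff_not_dvd.2 fun hd' =>
          absurd (Nat.le_of_dvd hi hd') (by omega)).symm)
      rw [← hu]
      exact (hc.pow_right u).symm) hcop hKne
  refine orderOf_ne_rr h (((g : W) : N) : G) ?_
  rw [orderOf_coe, orderOf_coe, hg]

end CfsgLib.FGS74.TwoR
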