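import Cfsg.Agent.FGS74.TwoR.Central
import Cfsg.Agent.FGS74.TwoR.Locals
import Cfsg.Agent.Classification.DihedralBSW

/-!
# The four group case

Either the centralisers of the involutions of a Sylow two-subgroup normalise it, or the group is
`PSL(2, q)` by the Brauer–Suzuki–Wall theorem.
-/

set_option autoImplicit false
set_option linter.style.haveILetI false
set_option linter.unusedSectionVars false

namespace CfsgLib.FGS74.TwoR

open Subgroup
open CfsgLib.FGS74.ThreeOrders
open scoped commutatorElement Pointwise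

universe u

variable {G : Type u} [Group G] [Finite G] {r : ℕ}

theorem free_of_isConj (S : Sylow 2 G)
    (hS : ∀ q : G, orderOf q = r → ¬ ∀ s ∈ (S : Subgroup G), Commute q s) : Free G r := by
  haveI := Fact.mk Nat.prime_two
  intro T q hq hall
  obtain ⟨g, hg⟩ := MulAction.exists_smul_eq G T S
  refine hS (g * q * g⁻¹) ((MulAut.conj g).orderOf_eq q ▸ hq) fun s hs => ?_
  rw [← hg] at hs
  obtain ⟨a, ha, rfl⟩ := hs
  simpa using (hall a ha).map (MulAut.conj g).toMonoidHom

theorem card_sylow (S : Sylow 2 G) (h4 : Nat.card (S : Subgroup G) = 4) (T : Sylow 2 G) :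
    Nat.card (T : Subgroup G) = 4 := by
  haveI := Fact.mk Nat.prime_two
  rw [Sylow.card_eq_multiplicity, ← S.card_eq_multiplicity, h4]

/-- A fixed point free involution inverts. -/
theorem inverts_of_fpf {U : Subgroup G} {s : G} (hs : s * s = 1) (hsU : s ∈ normalizer (U : Set G))
    (hfix : ∀ u ∈ U, Commute u s → u = 1) : ∀ u ∈ U, s * u * s⁻¹ = u⁻¹ := by
  have hs' : s⁻¹ = s := inv_eq_of_mul_eq_one_right hs
  let f : U → U := fun u => ⟨(u : G)⁻¹ * (s * u * s⁻¹),
    mul_mem (inv_mem u.2) (conj_mem_of_le_normalizer hsU u.2)⟩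
  have hinj : Function.Injective f := by
    intro a b hab
    have h1 : (a : G)⁻¹ * (s * a * s⁻¹) = (b : G)⁻¹ * (s * b * s⁻¹) := congrArg Subtype.val hab
    have h2 : (b : G) * (a : G)⁻¹ = 1 := hfix _ (mul_mem b.2 (inv_mem a.2)) (by
      show (b : G) * (a : G)⁻¹ * s = s * ((b : G) * (a : G)⁻¹)
      calc (b : G) * (a : G)⁻¹ * s = b * ((a : G)⁻¹ * (s * a * s⁻¹)) * (s * (a : G)⁻¹ * s⁻¹) * s := by
            group
        _ = s * ((b : G) * (a : G)⁻¹) := by rw [h1]; group)
    exact Subtype.ext (mul_inv_eq_one.1 h2).symm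
  intro u hu
  obtain ⟨v, hv⟩ := (Finite.injective_iff_surjective.1 hinj) ⟨u, hu⟩
  have h1 : (v : G)⁻¹ * (s * v * s⁻¹) = u := congrArg Subtype.val hv
  rw [← h1, hs']
  calc s * ((v : G)⁻¹ * (s * v * s)) * s = s * (v : G)⁻¹ * s * v * (s * s) := by group
    _ = ((v : G)⁻¹ * (s * v * s))⁻¹ := by rw [hs]; simp [mul_assoc, hs']

theorem eq_or_eq_of_mem_zpowers {t y : G} (ht : orderOf t = 2) (hy : y ∈ zpowers t) :
    y = 1 ∨ y = t := by
  obtain ⟨i, rfl⟩ := mem_zpowers_iff.1 hy
  rw [← zpow_mod_orderOf, ht]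
  rcases Int.emod_two_eq_zero_or_one i with h | h <;> simp [h]

/-- Sylow `r`-subgroups meet trivially. -/
theorem sylow_ti (h : OneComposite.Hyp G r) (hfree : Free G r)
    (h4 : ∀ T : Sylow 2 G, Nat.card (T : Subgroup G) = 4) (P P' : Sylow r G) {y : G}
    (hy : y ∈ (P : Subgroup G)) (hy' : y ∈ (P' : Subgroup G)) (hy1 : y ≠ 1) : P = P' := by
  haveI := Fact.mk h.prime
  classical
  by_contra hne
  let A : Set (Sylow r G × Sylow r G) :=
    {x | x.1 ≠ x.2 ∧ ((x.1 : Subgroup G) ⊓ (x.2 : Subgroup G) : Subgroup G) ≠ ⊥}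
  obtain ⟨⟨P₁, P₂⟩, ⟨hne', hD1⟩, hmax⟩ := (Set.toFinite A).exists_maximalFor
    (fun x => Nat.card ↥((x.1 : Subgroup G) ⊓ (x.2 : Subgroup G))) A
    ⟨(P, P'), hne, fun e => hy1 (mem_bot.1 (e ▸ mem_inf.2 ⟨hy, hy'⟩))⟩
  simp only at hne' hD1 hmax
  set D := (P₁ : Subgroup G) ⊓ (P₂ : Subgroup G) with hD
  obtain ⟨R, -, hRr, hR⟩ := rclosed h hfree h4 (P₁.2.to_le inf_le_left : IsPGroup r D) hD1
  obtain ⟨P₃, hP₃⟩ := hRr.exists_le_sylow
  have key : ∀ Q : Sylow r G, D ≤ (Q : Subgroup G) → ¬ (Q : Subgroup G) ≤ D → P₃ = Q := by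
    intro Q hDQ hQD
    by_contra hne3
    haveI : Group.IsNilpotent ↥(Q : Subgroup G) := Q.2.isNilpotent
    have hlt : D.subgroupOf (Q : Subgroup G) < ⊤ :=
      lt_top_iff_ne_top.2 fun e => hQD (subgroupOf_eq_top.1 e)
    obtain ⟨g, hgn, hgD⟩ :=
      SetLike.exists_of_lt (Group.normalizerCondition_of_isNilpotent _ hlt)
    have hgn' : (g : G) ∈ normalizer (D : Set G) := by
      refine mem_normalizer_fintype fun z hz => ?_
      exact mem_subgroupOf.1 ((mem_normalizer_iff.1 hgn ⟨z, hDQ hz⟩).1 hz)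
    have hle : D ≤ (P₃ : Subgroup G) ⊓ (Q : Subgroup G) := by
      refine le_inf (fun z hz => hP₃ ?_) hDQ
      obtain ⟨k, hk⟩ := Q.2 ⟨z, hDQ hz⟩
      exact hR z (le_normalizer hz) k (congrArg Subtype.val hk)
    have hg3 : (g : G) ∈ (P₃ : Subgroup G) ⊓ (Q : Subgroup G) := by
      refine mem_inf.2 ⟨hP₃ ?_, g.2⟩
      obtain ⟨k, hk⟩ := Q.2 g
      exact hR g hgn' k (congrArg Subtype.val hk)
    have hA : (P₃, Q) ∈ A := ⟨hne3, fun e => hD1 (le_bot_iff.1 (hle.trans e.le))⟩
    have hcard : Nat.card D < Nat.card ↥((P₃ : Subgroup G) ⊓ (Q : Subgroup G)) := by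
      refine lt_of_le_of_ne (Nat.le_of_dvd Nat.card_pos (card_dvd_of_le hle)) fun e => hgD ?_
      exact mem_subgroupOf.2 (eq_of_le_of_card_ge hle e.ge ▸ hg3)
    exact absurd (hmax hA hcard.le) (not_le.2 hcard)
  refine hne' ((key P₁ inf_le_left fun hle => hne' ?_).symm.trans (key P₂ inf_le_right fun hle => hne' ?_))
  · exact Sylow.ext ((P₁.3 P₂.2 (hle.trans inf_le_right)).symm)
  · exact Sylow.ext (P₂.3 P₁.2 (hle.trans inf_le_left))

/-- Commuting involutions centralising a nontrivial element of order `r` coincide. -/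
theorem invol_unique (hfree : Free G r)
    (h4 : ∀ T : Sylow 2 G, Nat.card (T : Subgroup G) = 4) {i j q : G} (hi : orderOf i = 2)
    (hj : orderOf j = 2) (hij : Commute i j) (hq : orderOf q = r) (hqi : Commute q i)
    (hqj : Commute q j) : i = j := by
  haveI := Fact.mk Nat.prime_two
  by_contra hne
  have hii : i * i = 1 := by rw [← sq, ← hi, pow_orderOf_eq_one]
  have hjj : j * j = 1 := by rw [← sq, ← hj, pow_orderOf_eq_one]
  let E : Subgroup G :=
    { carrier := {g | ∃ a ∈ zpowers i, ∃ b ∈ zpowers j, g = a * b}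
      one_mem' := ⟨1, one_mem _, 1, one_mem _, (one_mul 1).symm⟩
      mul_mem' := by
        rintro _ _ ⟨a, ha, b, hb, rfl⟩ ⟨a', ha', b', hb', rfl⟩
        refine ⟨a * a', mul_mem ha ha', b * b', mul_mem hb hb', ?_⟩
        obtain ⟨m, rfl⟩ := mem_zpowers_iff.1 hb
        obtain ⟨n, rfl⟩ := mem_zpowers_iff.1 ha'
        calc a * j ^ m * (i ^ n * b') = a * (j ^ m * i ^ n) * b' := by group
          _ = a * (i ^ n * j ^ m) * b' := by rw [(hij.symm.zpow_zpow m n).eq]
          _ = a * i ^ n * (j ^ m * b') := by group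
      inv_mem' := by
        rintro _ ⟨a, ha, b, hb, rfl⟩
        refine ⟨a⁻¹, inv_mem ha, b⁻¹, inv_mem hb, ?_⟩
        obtain ⟨m, rfl⟩ := mem_zpowers_iff.1 hb
        obtain ⟨n, rfl⟩ := mem_zpowers_iff.1 ha
        rw [mul_inv_rev, ← zpow_neg, ← zpow_neg, (hij.symm.zpow_zpow _ _).eq] }
  have hmem : ∀ g ∈ E, g = 1 ∨ g = i ∨ g = j ∨ g = i * j := by
    rintro g ⟨a, ha, b, hb, rfl⟩
    rcases eq_or_eq_of_mem_zpowers hi ha with e | e <;>
      rcases eq_or_eq_of_mem_zpowers hj hb with f | f <;> simp [e, f]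
  have hE2 : IsPGroup 2 E := by
    intro g
    refine ⟨1, Subtype.ext ?_⟩
    rw [pow_one, SubmonoidClass.coe_pow, sq, OneMemClass.coe_one]
    rcases hmem g g.2 with e | e | e | e <;> rw [e]
    · simp
    · exact hii
    · exact hjj
    · calc i * j * (i * j) = i * (j * i) * j := by group
        _ = (i * i) * (j * j) := by rw [← hij.eq]; group
        _ = 1 := by rw [hii, hjj, one_mul]
  obtain ⟨T, hT⟩ := hE2.exists_le_sylow
  have hiE : i ∈ E := ⟨i, mem_zpowers i, 1, one_mem _, (mul_one i).symm⟩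
  have hjE : j ∈ E := ⟨1, one_mem _, j, mem_zpowers j, (one_mul j).symm⟩
  have hi1 : i ≠ 1 := fun e => by rw [e, orderOf_one] at hi; norm_num at hi
  have hj1 : j ≠ 1 := fun e => by rw [e, orderOf_one] at hj; norm_num at hj
  refine hfree T q hq fun s hs => ?_
  rcases cases_of_card_four (h4 T) (hT hiE) (hT hjE) (hT (mul_mem hiE hjE)) hs hi1 hj1
    (fun e => hne (by rw [eq_inv_of_mul_eq_one_left e, inv_eq_of_mul_eq_one_right hjj]))
    hne (fun e => hj1 (mul_eq_left.1 e.symm)) (fun e => hi1 (mul_eq_right.1 e.symm)) with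
    rfl | rfl | rfl | rfl
  exacts [Commute.one_right q, hqi, hqj, hqi.mul_right hqj]

/-- The Brauer–Suzuki–Wall case. -/
theorem exists_equiv_of_free (h : OneComposite.Hyp G r) (S : Sylow 2 G)
    (h4S : Nat.card (S : Subgroup G) = 4) (hfree : Free G r) :
    ∃ (F : Type) (_ : Field F) (_ : Fintype F), Odd (Fintype.card F) ∧
      Nonempty (G ≃* Matrix.ProjectiveSpecialLinearGroup (Fin 2) F) := by
  haveI := Fact.mk Nat.prime_two
  haveI := Fact.mk h.prime
  have h4 := card_sylow S h4S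
  obtain ⟨x, hxo, hxS, hfpf⟩ := exists_x h S h4S
  obtain ⟨t, htS, ht1⟩ : ∃ t ∈ (S : Subgroup G), t ≠ 1 := by
    by_contra! hh
    rw [(eq_bot_iff_forall _).2 hh, card_bot] at h4S
    norm_num at h4S
  have hto := orderOf_of_mem h S htS ht1
  set s := x * t * x⁻¹ with hs
  have hsS : s ∈ (S : Subgroup G) := conj_mem_of_le_normalizer hxS htS
  have hs1 : s ≠ 1 := fun e => ht1 (conj_eq_one_iff.1 e)
  have hst : s ≠ t := fun e => ht1 (hfpf 1 one_pos (by norm_num) t htS (by
    rw [pow_one]; exact (mul_inv_eq_iff_eq_mul.1 e).symm))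
  have hscases : ∀ a ∈ (S : Subgroup G), a = 1 ∨ a = t ∨ a = s ∨ a = t * s := fun a ha =>
    cases_of_card_four h4S htS hsS (mul_mem htS hsS) ha ht1 hs1
      (fun e => hst (by
        rw [eq_inv_of_mul_eq_one_right e, inv_eq_of_mul_eq_one_right (sq_of_mem h S htS)]))
      hst.symm (fun e => hs1 (mul_eq_left.1 e.symm)) (fun e => ht1 (mul_eq_right.1 e.symm))
  obtain ⟨Q, hQC, hCQ, hQr, hQodd, hQmem, hdec⟩ := exists_odd_part h S h4S htS ht1
  -- an element of order `r` in `Q`
  obtain ⟨q₁, hq₁, hq₁o⟩ : ∃ q ∈ Q, orderOf q = r := by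
    obtain ⟨g, hg⟩ := h.exists_two_r
    have hgr : orderOf (g ^ r) = 2 := by
      rw [orderOf_pow, hg, Nat.gcd_eq_right (dvd_mul_left r 2), Nat.mul_div_cancel _ h.prime.pos]
    have hg2 : orderOf (g ^ 2) = r := by
      rw [orderOf_pow, hg, Nat.gcd_eq_right (dvd_mul_right 2 r), Nat.mul_div_cancel_left _ two_pos]
    obtain ⟨c, hc⟩ := isConj_iff.1 (isConj_involutions h S h4S hgr hto)
    refine ⟨c * g ^ 2 * c⁻¹, hQmem _ (mem_centralizer_singleton_iff.2 ?_) ?_, ?_⟩
    · rw [← hc]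
      exact (((Commute.refl g).pow_pow 2 r).map (MulAut.conj c).toMonoidHom).eq
    · rw [show c * g ^ 2 * c⁻¹ = MulAut.conj c (g ^ 2) from rfl, MulEquiv.orderOf_eq, hg2]
      exact h.prime.odd_of_ne_two h.ne_two
    · rw [show c * g ^ 2 * c⁻¹ = MulAut.conj c (g ^ 2) from rfl, MulEquiv.orderOf_eq, hg2]
  have hq₁1 : q₁ ≠ 1 := fun e => h.prime.ne_one (by rw [← hq₁o, e, orderOf_one])
  have hQo : ∀ q ∈ Q, q ≠ 1 → orderOf q = r := fun q hq hq1 =>
    orderOf_eq_r h hto (mem_centralizer_singleton_iff.1 (hQC hq)).symm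
      (hQodd.of_dvd_nat (orderOf_dvd_natCard Q hq)) hq1
  obtain ⟨P, hQP⟩ := hQr.exists_le_sylow
  have hnormP : ∀ g : G, ∀ q ∈ (P : Subgroup G), q ≠ 1 → g * q * g⁻¹ ∈ (P : Subgroup G) →
      g ∈ normalizer ((P : Subgroup G) : Set G) := by
    intro g q hq hq1 hgq
    have := sylow_ti h hfree h4 (g • P) P (y := g * q * g⁻¹) ⟨q, hq, rfl⟩ hgq
      (fun e => hq1 (conj_eq_one_iff.1 e))
    exact Sylow.smul_eq_iff_mem_normalizer.1 this
  have hSP : ∀ a ∈ (S : Subgroup G), a ∈ normalizer ((P : Subgroup G) : Set G) := fun a ha =>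
    hnormP a q₁ (hQP hq₁) hq₁1 (hQP (conj_mem_of_le_normalizer
      (hCQ (mem_centralizer_singleton_iff.2 (comm_of_mem h S ha htS).eq)) hq₁))
  have hPodd : Odd (Nat.card (P : Subgroup G)) := by
    obtain ⟨n, hn⟩ := IsPGroup.iff_card.1 P.2
    rw [hn]; exact (h.prime.odd_of_ne_two h.ne_two).pow
  have hPmem : ∀ g ∈ (P : Subgroup G), Commute g t → g ∈ Q := fun g hg hc =>
    hQmem g (mem_centralizer_singleton_iff.2 hc.eq) (hPodd.of_dvd_nat (orderOf_dvd_natCard _ hg))
  -- the other involutions act without fixed points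
  have hfix : ∀ i : ℕ, 0 < i → i < 3 → ∀ u ∈ (P : Subgroup G),
      Commute u (x ^ i * t * (x ^ i)⁻¹) → u = 1 := by
    intro i hi hi3 u hu hc
    by_contra hu1
    set g := x ^ i with hg
    have hu' : g⁻¹ * u * g ∈ Q := by
      refine hQmem _ (mem_centralizer_singleton_iff.2 ?_) ?_
      · calc g⁻¹ * u * g * t = g⁻¹ * (u * (g * t * g⁻¹)) * g := by group
          _ = t * (g⁻¹ * u * g) := by rw [hc.eq]; group
      · rw [show g⁻¹ * u * g = MulAut.conj g⁻¹ u by simp, MulEquiv.orderOf_eq]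
        exact hPodd.of_dvd_nat (orderOf_dvd_natCard _ hu)
    have hgP : g ∈ normalizer ((P : Subgroup G) : Set G) :=
      hnormP g (g⁻¹ * u * g) (hQP hu') (fun e => hu1 (by
        calc u = g * (g⁻¹ * u * g) * g⁻¹ := by group
          _ = 1 := by rw [e]; group)) (by rw [show g * (g⁻¹ * u * g) * g⁻¹ = u by group]; exact hu)
    have hxP : x ∈ normalizer ((P : Subgroup G) : Set G) := by
      interval_cases i
      · simpa [hg] using hgP
      · have : x = g ^ 2 := by
          rw [hg, ← pow_mul, show 2 * 2 = 3 + 1 from rfl, pow_succ, ← hxo, pow_orderOf_eq_one, one_mul]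
        rw [this]; exact pow_mem hgP 2
    have hne : ¬ (S : Subgroup G) ≤ centralizer ((P : Subgroup G) : Set G) := fun hle =>
      hfree S q₁ hq₁o fun a ha => mem_centralizer_iff.1 (hle ha) q₁ (hQP hq₁)
    have hcop : (Nat.card (S : Subgroup G)).Coprime (Nat.card (P : Subgroup G)) := by
      rw [h4S, show 4 = 2 ^ 2 by norm_num]
      exact (Nat.coprime_two_left.2 hPodd).pow_left 2
    obtain ⟨g', hg'⟩ := exists_mixed h.prime Nat.prime_three P.2 hSP hxP hxS hxo hfpf hcop hne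
    exact orderOf_ne_r_mul h Nat.prime_three (by norm_num) g' hg'
  have hxx : x ^ 2 * t * (x ^ 2)⁻¹ = t * s := by
    rcases hscases _ (conj_mem_of_le_normalizer (pow_mem hxS 2) htS) with e | e | e | e
    · exact absurd (conj_eq_one_iff.1 e) ht1
    · exact absurd (hfpf 2 two_pos (by norm_num) t htS (mul_inv_eq_iff_eq_mul.1 e).symm) ht1
    · refine absurd ?_ ht1
      have : x * t * x⁻¹ = t := by
        calc x * t * x⁻¹ = x⁻¹ * (x ^ 2 * t * (x ^ 2)⁻¹) * x := by rw [sq]; group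
          _ = t := by rw [e, hs]; group
      exact hfpf 1 one_pos (by norm_num) t htS (by
        rw [pow_one]; exact (mul_inv_eq_iff_eq_mul.1 this).symm)
    · exact e
  have hts2 : t * s * (t * s) = 1 := sq_of_mem h S (mul_mem htS hsS)
  have hinv : ∀ u ∈ (P : Subgroup G), s * u * s⁻¹ = u⁻¹ :=
    inverts_of_fpf (sq_of_mem h S hsS) (hSP s hsS) fun u hu hc =>
      hfix 1 one_pos (by norm_num) u hu (by rwa [pow_one])
  have hinv' : ∀ u ∈ (P : Subgroup G), t * s * u * (t * s)⁻¹ = u⁻¹ :=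
    inverts_of_fpf hts2 (hSP _ (mul_mem htS hsS)) fun u hu hc =>
      hfix 2 two_pos (by norm_num) u hu (hxx ▸ hc)
  have hPQ : (P : Subgroup G) = Q := le_antisymm (fun u hu => hPmem u hu (by
    have h1 := hinv' (s * u * s⁻¹) (conj_mem_of_le_normalizer (hSP s hsS) hu)
    rw [show t * s * (s * u * s⁻¹) * (t * s)⁻¹ = t * ((s * s) * u * (s * s)⁻¹) * t⁻¹ by group,
      sq_of_mem h S hsS, hinv u hu] at h1
    simp only [one_mul, inv_one, mul_one, inv_inv] at h1
    exact (mul_inv_eq_iff_eq_mul.1 h1).symm)) hQP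
  -- the normaliser of `Q`
  have hNQ : normalizer (Q : Set G) ≤ centralizer ({t} : Set G) := by
    intro g hg
    set i := g * t * g⁻¹ with hi
    have hio : orderOf i = 2 := by
      rw [hi, show g * t * g⁻¹ = MulAut.conj g t from rfl, MulEquiv.orderOf_eq, hto]
    have hq₁t : Commute q₁ t := mem_centralizer_singleton_iff.1 (hQC hq₁)
    have hiQ : Commute q₁ i := by
      have h1 := conj_mem_of_le_normalizer (inv_mem hg) hq₁
      rw [inv_inv] at h1
      have h2 : Commute (g⁻¹ * q₁ * g) t := mem_centralizer_singleton_iff.1 (hQC h1)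
      show q₁ * i = i * q₁
      calc q₁ * i = g * (g⁻¹ * q₁ * g * t) * g⁻¹ := by rw [hi]; group
        _ = g * (t * (g⁻¹ * q₁ * g)) * g⁻¹ := by rw [h2.eq]
        _ = i * q₁ := by rw [hi]; group
    suffices hit : Commute i t by
      have := invol_unique hfree h4 hio hto hit hq₁o hiQ hq₁t
      exact mem_centralizer_singleton_iff.2 (mul_inv_eq_iff_eq_mul.1 this)
    set w := i * t with hw
    have hqw : Commute q₁ w := hiQ.mul_right hq₁t
    by_cases hodd : Odd (orderOf w)
    · have hwQ : w ∈ Q := by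
        rcases eq_or_ne w 1 with e | e
        · rw [e]; exact one_mem Q
        have hwr : ∃ k, orderOf w = r ^ k := by
          refine ⟨_, Nat.eq_prime_pow_of_unique_prime_dvd (orderOf_pos w).ne' fun {d} hd hdw => ?_⟩
          obtain ⟨w', hw'⟩ : ∃ w' : G, w' = w ^ (orderOf w / d) := ⟨_, rfl⟩
          have hw'o : orderOf w' = d := hw' ▸ orderOf_pow_orderOf_div (orderOf_pos w).ne' hdw
          rcases prime_of_commute_r h hq₁o (hw' ▸ hqw.pow_right _ : Commute q₁ w') hd hw'o with e | e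
          · exact absurd (e ▸ hdw : 2 ∣ orderOf w) hodd.not_two_dvd_nat
          · exact e
        obtain ⟨k, hk⟩ := hwr
        have hwN : w ∈ normalizer (Q : Set G) := by
          refine mul_mem ?_ (hCQ (mem_centralizer_singleton_iff.2 rfl))
          rw [hi]
          exact mul_mem (mul_mem hg (hCQ (mem_centralizer_singleton_iff.2 rfl))) (inv_mem hg)
        rw [← hPQ] at hwN ⊢
        exact (P.3 (P.2.to_sup_of_normal_left' (zpowers_isPGroup (hk ▸ pow_orderOf_eq_one w))
          (zpowers_le.2 hwN)) le_sup_left).le (mem_sup_right (mem_zpowers w))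
      have hct : Commute w t := mem_centralizer_singleton_iff.1 (hQC hwQ)
      have : i = w * t := by
        rw [hw, mul_assoc, sq_of_mem h S htS, mul_one]
      rw [this]
      exact hct.mul_left (Commute.refl t)
    · have hd : 2 ∣ orderOf w := even_iff_two_dvd.1 (Nat.not_odd_iff_even.1 hodd)
      set z := w ^ (orderOf w / 2) with hz
      have hzo : orderOf z = 2 := orderOf_pow_orderOf_div (orderOf_pos w).ne' hd
      have hzz : z⁻¹ = z := inv_eq_of_mul_eq_one_right (by rw [← sq, ← hzo, pow_orderOf_eq_one])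
      have hii : i⁻¹ = i := inv_eq_of_mul_eq_one_right (by rw [← sq, ← hio, pow_orderOf_eq_one])
      have htt : t⁻¹ = t := inv_eq_of_mul_eq_one_right (sq_of_mem h S htS)
      have hzt : Commute z t := by
        have h1 : t * w * t⁻¹ = w⁻¹ := by
          rw [hw, mul_inv_rev, hii, htt, mul_assoc, mul_assoc, sq_of_mem h S htS, mul_one]
        have h2 : t * z * t⁻¹ = z := by
          conv_rhs => rw [← hzz]
          rw [hz, ← inv_pow, ← h1, conj_pow]
        exact (mul_inv_eq_iff_eq_mul.1 h2).symm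
      have hzeq := invol_unique hfree h4 hzo hto hzt hq₁o (hqw.pow_right _) hq₁t
      have hwt : Commute w t := hzeq ▸ (Commute.refl w).pow_right _
      have : i = w * t := by rw [hw, mul_assoc, sq_of_mem h S htS, mul_one]
      rw [this]
      exact hwt.mul_left (Commute.refl t)
  -- the abelian subgroup
  have hQcomm : ∀ a ∈ Q, ∀ b ∈ Q, Commute a b := by
    intro a ha b hb
    have h1 := hinv (a * b) (hQP (mul_mem ha hb))
    have h2 : s * (a * b) * s⁻¹ = a⁻¹ * b⁻¹ := by
      rw [← hinv a (hQP ha), ← hinv b (hQP hb)]; group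
    rw [h1, mul_inv_rev] at h2
    show a * b = b * a
    calc a * b = (b⁻¹ * a⁻¹)⁻¹ := by group
      _ = b * a := by rw [h2]; group
  have hQt : ∀ q ∈ Q, Commute q t := fun q hq => mem_centralizer_singleton_iff.1 (hQC hq)
  let K : Subgroup G :=
    { carrier := {g | ∃ o ∈ Q, ∃ y ∈ zpowers t, g = o * y}
      one_mem' := ⟨1, one_mem _, 1, one_mem _, (one_mul 1).symm⟩
      mul_mem' := by
        rintro _ _ ⟨o, ho, y, hy, rfl⟩ ⟨o', ho', y', hy', rfl⟩
        refine ⟨o * o', mul_mem ho ho', y * y', mul_mem hy hy', ?_⟩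
        obtain ⟨i, rfl⟩ := mem_zpowers_iff.1 hy
        have := ((hQt o' ho').zpow_right i).eq
        calc o * t ^ i * (o' * y') = o * (t ^ i * o') * y' := by group
          _ = o * (o' * t ^ i) * y' := by rw [this]
          _ = o * o' * (t ^ i * y') := by group
      inv_mem' := by
        rintro _ ⟨o, ho, y, hy, rfl⟩
        obtain ⟨i, rfl⟩ := mem_zpowers_iff.1 hy
        refine ⟨o⁻¹, inv_mem ho, (t ^ i)⁻¹, inv_mem hy, ?_⟩
        rw [← ((hQt o ho).zpow_right i).inv_inv.symm.eq, mul_inv_rev] }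
  have hKcases : ∀ g ∈ K, ∃ o ∈ Q, g = o ∨ g = o * t := by
    rintro _ ⟨o, ho, y, hy, rfl⟩
    rcases eq_or_eq_of_mem_zpowers hto hy with rfl | rfl
    · exact ⟨o, ho, Or.inl (mul_one o)⟩
    · exact ⟨o, ho, Or.inr rfl⟩
  have htK : t ∈ K := ⟨1, one_mem _, t, mem_zpowers t, (one_mul t).symm⟩
  have hQK : Q ≤ K := fun q hq => ⟨q, hq, 1, one_mem _, (mul_one q).symm⟩
  have hKC : K ≤ centralizer ({t} : Set G) := by
    rintro _ ⟨o, ho, y, hy, rfl⟩
    exact mul_mem (hQC ho) (zpowers_le.2 (mem_centralizer_singleton_iff.2 rfl) hy)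
  have hsC : s ∈ centralizer ({t} : Set G) := mem_centralizer_singleton_iff.2 (comm_of_mem h S hsS htS).eq
  have hQsq : ∀ o ∈ Q, o * o = 1 → o = 1 := by
    intro o ho ho2
    by_contra hne
    have := hQo o ho hne
    have hd : r ∣ 2 := this ▸ orderOf_dvd_of_pow_eq_one (by rw [sq]; exact ho2)
    exact h.ne_two ((Nat.prime_dvd_prime_iff_eq h.prime Nat.prime_two).1 hd)
  have hKsq : ∀ g ∈ K, g * g = 1 → g = 1 ∨ g = t := by
    intro g hg hgg
    obtain ⟨o, ho, rfl | rfl⟩ := hKcases g hg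
    · exact Or.inl (hQsq g ho hgg)
    · right
      rw [hQsq o ho ?_, one_mul]
      calc o * o = (o * o) * (t * t) := by rw [sq_of_mem h S htS, mul_one]
        _ = o * t * (o * t) := by
          rw [mul_assoc o t, ← mul_assoc t o, ← (hQt o ho).eq]; group
        _ = 1 := hgg
  have hinvK : ∀ g ∈ K, s * g * s⁻¹ = g⁻¹ := by
    intro g hg
    obtain ⟨o, ho, rfl | rfl⟩ := hKcases g hg
    · exact hinv _ (hQP ho)
    · calc s * (o * t) * s⁻¹ = (s * o * s⁻¹) * (s * t * s⁻¹) := by group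
        _ = o⁻¹ * t := by rw [hinv o (hQP ho), (comm_of_mem h S hsS htS).eq, mul_inv_cancel_right]
        _ = (o * t)⁻¹ := by
          rw [mul_inv_rev, inv_eq_of_mul_eq_one_right (sq_of_mem h S htS), ((hQt o ho).inv_left).eq]
  have hsK : s ∉ K := fun hsK => by
    rcases hKsq s hsK (sq_of_mem h S hsS) with e | e
    · exact hs1 e
    · exact hst e
  have hH : K ⊔ zpowers s = centralizer ({t} : Set G) := by
    refine le_antisymm (sup_le hKC (zpowers_le.2 hsC)) fun g hg => ?_
    obtain ⟨o, ho, a, ha, rfl⟩ := hdec g hg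
    refine mul_mem (mem_sup_left (hQK ho)) ?_
    rcases hscases a ha with rfl | rfl | rfl | rfl
    · exact one_mem _
    · exact mem_sup_left htK
    · exact mem_sup_right (mem_zpowers _)
    · exact mul_mem (mem_sup_left htK) (mem_sup_right (mem_zpowers _))
  have hCK : K ⊓ centralizer ({s} : Set G) = zpowers t := by
    refine le_antisymm (fun g hg => ?_) (zpowers_le.2 (mem_inf.2 ⟨htK,
      mem_centralizer_singleton_iff.2 (comm_of_mem h S htS hsS).eq⟩))
    obtain ⟨hgK, hgs⟩ := mem_inf.1 hg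
    have h1 := hinvK g hgK
    rw [← mem_centralizer_singleton_iff.1 hgs, mul_inv_cancel_right] at h1
    rcases hKsq g hgK (eq_inv_iff_mul_eq_one.1 h1) with rfl | rfl
    · exact one_mem _
    · exact mem_zpowers _
  have hK2 : ∀ g ∈ K, g * g ∈ Q := by
    intro g hg
    obtain ⟨o, ho, rfl | rfl⟩ := hKcases g hg
    · exact mul_mem ho ho
    · have : o * t * (o * t) = (o * o) * (t * t) := by
        rw [mul_assoc o t, ← mul_assoc t o, ← (hQt o ho).eq]; group
      rw [this, sq_of_mem h S htS, mul_one]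
      exact mul_mem ho ho
  have hTI : ∀ g : G, g ∉ centralizer ({t} : Set G) → K ⊓ K.map (MulAut.conj g).toMonoidHom = ⊥ := by
    intro g hg
    rw [eq_bot_iff_forall]
    intro y hy
    obtain ⟨hyK, a, haK, hay⟩ := mem_inf.1 hy
    rw [MulEquiv.coe_toMonoidHom, MulAut.conj_apply] at hay
    by_contra hy1
    have ha1 : a ≠ 1 := fun e => hy1 (by rw [← hay, e, mul_one, mul_inv_cancel])
    rcases eq_or_ne (a * a) 1 with haa | haa
    · have hyy : y * y = 1 := by
        rw [← hay, show g * a * g⁻¹ * (g * a * g⁻¹) = g * (a * a) * g⁻¹ by group, haa]; group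
      rcases hKsq a haK haa with e | e
      · exact ha1 e
      rcases hKsq y hyK hyy with e' | e'
      · exact hy1 e'
      rw [e, e'] at hay
      exact hg (mem_centralizer_singleton_iff.2 (mul_inv_eq_iff_eq_mul.1 hay))
    · refine hg (hNQ ?_)
      have hgP := hnormP g (a * a) (hQP (hK2 a haK)) haa (by
        rw [show g * (a * a) * g⁻¹ = (g * a * g⁻¹) * (g * a * g⁻¹) by group, hay]
        exact hQP (hK2 y hyK))
      rwa [hPQ] at hgP
  have hconj : ∀ a b : G, orderOf a = 2 → orderOf b = 2 → IsConj a b := fun a b ha hb =>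
    isConj_involutions h S h4S ha hb
  have hKab : IsMulCommutative K := by
    refine ⟨⟨fun a b => Subtype.ext ?_⟩⟩
    have h1 := hinvK _ (mul_mem a.2 b.2)
    have h2 : s * ((a : G) * b) * s⁻¹ = (a : G)⁻¹ * (b : G)⁻¹ := by
      rw [← hinvK a a.2, ← hinvK b b.2]; group
    rw [h1, mul_inv_rev] at h2
    show (a : G) * b = b * a
    calc (a : G) * b = ((b : G)⁻¹ * (a : G)⁻¹)⁻¹ := by group
      _ = b * a := by rw [h2]; group
  have h12 : Nat.card G ≠ 12 := by
    haveI := h.isSimple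
    exact Classification.DihedralBSW.card_ne_twelve S h.noncomm
  exact Classification.PSLTwoGeneral.exists_equiv_of_conclusion
    (BSW.conclusion_of_centralizer t hto K hKab hKC htK s (orderOf_of_mem h S hsS hs1) hsC hsK hH
      hCK hinvK hTI hconj) h12

/-- The four group case. -/
theorem localsIn_or_exists_equiv (h : OneComposite.Hyp G r) (S : Sylow 2 G)
    (h4 : Nat.card (S : Subgroup G) = 4) :
    (∀ t ∈ (S : Subgroup G), t ≠ 1 → centralizer ({t} : Set G) ≤ normalizer ((S : Subgroup G) : Set G)) ∨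
      ∃ (F : Type) (_ : Field F) (_ : Fintype F), Odd (Fintype.card F) ∧
        Nonempty (G ≃* Matrix.ProjectiveSpecialLinearGroup (Fin 2) F) := by
  by_cases hq : ∃ q : G, orderOf q = r ∧ ∀ s ∈ (S : Subgroup G), Commute q s
  · obtain ⟨q, hqo, hqc⟩ := hq
    exact Or.inl (centralizer_le_normalizer_of_central h S h4 hqc hqo)
  · push Not at hq
    exact Or.inr (exists_equiv_of_free h S h4 (free_of_isConj S fun q hqo hall => by
      obtain ⟨s, hs, hns⟩ := hq q hqo
      exact hns (hall s hs)))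

end CfsgLib.FGS74.TwoR
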